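import Mathlib
import Cfsg.Prelude.Def_Classical
import Cfsg.Prelude.Def_KGroupFacts
import Cfsg.Agent.Helper2.S3352.Defs
import Cfsg.Agent.Helper2.S2096.Defs

set_option autoImplicit false
set_option linter.unusedSectionVars false
set_option linter.unusedVariables false

/-! S2099 (Schur multiplier of `PΩ⁻_{2l}(q)`): common definitions.

Twisted type `²D_{n+1}`, relative root system `B_n`: the long roots `ε_a - ε_b` are those of `D_n`
(signed indices `J n`, `IsRoot a b`, as in S3352/S2096/S2094), with root elements `X a b t`, `t : F`;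
the short roots are the `ε_a`, `a : J n`, with root elements `Ys a w` parametrized by the vectors `w`
of an anisotropic quadratic space `(P, Q0)` over `F` (for `Ω⁻`: the anisotropic plane; `P = F`,
`Q0 t = t²` gives back type `B_n` of S2094). `QRel Q0 X Ys` = the Steinberg relations, `StQ n Q0`
the group presented by them. Model (index type `J n ⊕ κ`, `P = κ → F`, form `Σ x_i y_i + Q0 z`):
`xmQ a b t = 1 + t (E_{a,b} - E_{-b,-a})`,
`ymQ Q0 a w : e_{-a} ↦ e_{-a} - w - Q0(w) e_a`, `z ↦ z + B0(z, w) e_a` (`z ∈ P`). -/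

namespace Cfsg.Agent.S2099P

open Matrix Cfsg.Agent.S3352P Cfsg.Agent.S3351P Cfsg.Agent.S2096P

universe u

/-- the index set of the matrices -/
abbrev IQ (n : ℕ) (κ : Type) : Type := J n ⊕ κ

section model

variable {n : ℕ} {F : Type*} [Field F] {κ : Type} [Fintype κ] [DecidableEq κ]

/-- the block diagonal embedding of the matrices of `Ω⁺_{2n}` -/
def blkQ (A : Matrix (J n) (J n) F) : Matrix (IQ n κ) (IQ n κ) F := Matrix.fromBlocks A 0 0 1

/-- the model of the long root elements -/
def xmQ (a b : J n) (t : F) : Matrix (IQ n κ) (IQ n κ) F := blkQ (xm a b t)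

/-- the covector `B0(·, w)` -/
def bq (Q0 : QuadraticForm F (κ → F)) (w : κ → F) : κ → F :=
  fun k => QuadraticMap.polar Q0 (Pi.single k 1) w

/-- the model of the short root elements -/
def ymQ (Q0 : QuadraticForm F (κ → F)) (a : J n) (w : κ → F) : Matrix (IQ n κ) (IQ n κ) F :=
  Matrix.fromBlocks (1 - Q0 w • Matrix.single a (ng a) (1 : F))
    (Matrix.vecMulVec (Pi.single a (1 : F)) (bq Q0 w))
    (-Matrix.vecMulVec w (Pi.single (ng a) (1 : F))) 1

end model

variable {n : ℕ} {F : Type*} [Field F] {P : Type*} [AddCommGroup P] [Module F P]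
  {M : Type*} [Group M]

/-- the Steinberg relations of twisted type `²D_{n+1}` (relative type `B_n`) -/
structure QRel (Q0 : QuadraticForm F P) (X : J n → J n → F → M) (Ys : J n → P → M) : Prop where
  dX : DRel X
  yadd : ∀ a, ∀ w v : P, Ys a (w + v) = Ys a w * Ys a v
  yy : ∀ a b, IsRoot a b → ∀ w v : P,
    cm (Ys a w) (Ys b v) = X a (ng b) (-(QuadraticMap.polar Q0 w v))
  xy : ∀ a b, IsRoot a b → ∀ (s : F) (w : P),
    cm (X a b s) (Ys b w) = Ys a (s • w) * X a (ng b) (s * Q0 w)
  ycomm : ∀ a c d, IsRoot c d → d ≠ a → c ≠ ng a → ∀ (w : P) (t : F),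
    Ys a w * X c d t = X c d t * Ys a w

/-! ### the presented group -/

/-- generators: long root elements (names `(a, b)` of roots) and short root elements -/
abbrev GenQ (n : ℕ) (F : Type*) (P : Type*) : Type _ :=
  ({p : J n × J n // IsRoot p.1 p.2} × F) ⊕ (J n × P)

/-- the long root elements determined by an assignment of the generators -/
def famX (f : GenQ n F P → M) (a b : J n) (t : F) : M :=
  if h : IsRoot a b then f (Sum.inl (⟨(a, b), h⟩, t)) else 1

/-- the short root elements determined by an assignment of the generators -/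
def famY (f : GenQ n F P → M) (a : J n) (w : P) : M := f (Sum.inr (a, w))

theorem famX_of_isRoot (f : GenQ n F P → M) {a b : J n} (h : IsRoot a b) (t : F) :
    famX f a b t = f (Sum.inl (⟨(a, b), h⟩, t)) := dif_pos h

/-- the relators: the words which vanish in every group with the relations -/
def relsQ (n : ℕ) {F : Type u} [Field F] {P : Type u} [AddCommGroup P] [Module F P]
    (Q0 : QuadraticForm F P) : Set (FreeGroup (GenQ n F P)) :=
  {w | ∀ (M : Type u) [Group M] (f : GenQ n F P → M), QRel Q0 (famX f) (famY f) →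
    FreeGroup.lift f w = 1}

/-- the Steinberg group of twisted type `²D_{n+1}` -/
abbrev StQ (n : ℕ) {F : Type u} [Field F] {P : Type u} [AddCommGroup P] [Module F P]
    (Q0 : QuadraticForm F P) : Type u := PresentedGroup (relsQ n Q0)

section pres

variable {n : ℕ} {F : Type u} [Field F] {P : Type u} [AddCommGroup P] [Module F P]
  {Q0 : QuadraticForm F P}

/-- the word of a long root element -/
def wdX (a b : J n) (t : F) : FreeGroup (GenQ n F P) :=
  if h : IsRoot a b then FreeGroup.of (Sum.inl (⟨(a, b), h⟩, t)) else 1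

/-- the word of a short root element -/
def wdY (a : J n) (w : P) : FreeGroup (GenQ n F P) := FreeGroup.of (Sum.inr (a, w))

theorem lift_wdX {M : Type*} [Group M] (f : GenQ n F P → M) (a b : J n) (t : F) :
    FreeGroup.lift f (wdX (P := P) a b t) = famX f a b t := by
  unfold wdX famX
  split_ifs with h
  · rw [FreeGroup.lift_apply_of]
  · rw [map_one]

theorem lift_wdY {M : Type*} [Group M] (f : GenQ n F P → M) (a : J n) (w : P) :
    FreeGroup.lift f (wdY (F := F) a w) = famY f a w := by
  unfold wdY famY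
  rw [FreeGroup.lift_apply_of]

/-- the long root generators -/
def sxQ (Q0 : QuadraticForm F P) (a b : J n) (t : F) : StQ n Q0 :=
  PresentedGroup.mk (relsQ n Q0) (wdX a b t)

/-- the short root generators -/
def syQ (Q0 : QuadraticForm F P) (a : J n) (w : P) : StQ n Q0 :=
  PresentedGroup.mk (relsQ n Q0) (wdY a w)

theorem mk_eq_mk_of {w₁ w₂ : FreeGroup (GenQ n F P)}
    (h : ∀ (M : Type u) [Group M] (f : GenQ n F P → M), QRel Q0 (famX f) (famY f) →
      FreeGroup.lift f w₁ = FreeGroup.lift f w₂) :
    PresentedGroup.mk (relsQ n Q0) w₁ = PresentedGroup.mk (relsQ n Q0) w₂ := by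
  rw [← mul_inv_eq_one, ← map_inv, ← map_mul]
  apply PresentedGroup.one_of_mem
  intro M _ f hf
  rw [map_mul, map_inv, h M f hf, mul_inv_cancel]

/-- the generators satisfy the relations -/
theorem qRel_st : QRel Q0 (sxQ (n := n) Q0) (syQ (n := n) Q0) where
  dX :=
    { flip := by
        intro a b hab t
        apply mk_eq_mk_of
        intro M _ f hf
        rw [lift_wdX, lift_wdX]
        exact hf.dX.flip a b hab t
      add := by
        intro a b hab s t
        show PresentedGroup.mk _ _ = PresentedGroup.mk _ _ * PresentedGroup.mk _ _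
        rw [← map_mul]
        apply mk_eq_mk_of
        intro M _ f hf
        rw [map_mul, lift_wdX, lift_wdX, lift_wdX]
        exact hf.dX.add a b hab s t
      mul := by
        intro a b c hab hbc hac s t
        rw [cm_def]
        show PresentedGroup.mk _ _ * PresentedGroup.mk _ _ * (PresentedGroup.mk _ _)⁻¹ *
          (PresentedGroup.mk _ _)⁻¹ = PresentedGroup.mk _ _
        rw [← map_inv, ← map_inv, ← map_mul, ← map_mul, ← map_mul]
        apply mk_eq_mk_of
        intro M _ f hf
        simp only [map_mul, map_inv, lift_wdX]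
        rw [← cm_def]
        exact hf.dX.mul a b c hab hbc hac s t
      comm := by
        intro a b c d hab hcd h1 h2 h3 h4 h5 h6 s t
        show PresentedGroup.mk _ _ * PresentedGroup.mk _ _ =
          PresentedGroup.mk _ _ * PresentedGroup.mk _ _
        rw [← map_mul, ← map_mul]
        apply mk_eq_mk_of
        intro M _ f hf
        simp only [map_mul, lift_wdX]
        exact hf.dX.comm a b c d hab hcd h1 h2 h3 h4 h5 h6 s t
      orth := by
        intro a b hab s t
        show PresentedGroup.mk _ _ * PresentedGroup.mk _ _ =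
          PresentedGroup.mk _ _ * PresentedGroup.mk _ _
        rw [← map_mul, ← map_mul]
        apply mk_eq_mk_of
        intro M _ f hf
        simp only [map_mul, lift_wdX]
        exact hf.dX.orth a b hab s t }
  yadd := by
    intro a s t
    show PresentedGroup.mk _ _ = PresentedGroup.mk _ _ * PresentedGroup.mk _ _
    rw [← map_mul]
    apply mk_eq_mk_of
    intro M _ f hf
    rw [map_mul, lift_wdY, lift_wdY, lift_wdY]
    exact hf.yadd a s t
  yy := by
    intro a b hab s t
    rw [cm_def]
    show PresentedGroup.mk _ _ * PresentedGroup.mk _ _ * (PresentedGroup.mk _ _)⁻¹ *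
      (PresentedGroup.mk _ _)⁻¹ = PresentedGroup.mk _ _
    rw [← map_inv, ← map_inv, ← map_mul, ← map_mul, ← map_mul]
    apply mk_eq_mk_of
    intro M _ f hf
    simp only [map_mul, map_inv, lift_wdX, lift_wdY]
    rw [← cm_def]
    exact hf.yy a b hab s t
  xy := by
    intro a b hab s t
    rw [cm_def]
    show PresentedGroup.mk _ _ * PresentedGroup.mk _ _ * (PresentedGroup.mk _ _)⁻¹ *
      (PresentedGroup.mk _ _)⁻¹ = PresentedGroup.mk _ _ * PresentedGroup.mk _ _
    rw [← map_inv, ← map_inv, ← map_mul, ← map_mul, ← map_mul, ← map_mul]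
    apply mk_eq_mk_of
    intro M _ f hf
    simp only [map_mul, map_inv, lift_wdX, lift_wdY]
    rw [← cm_def]
    exact hf.xy a b hab s t
  ycomm := by
    intro a c d hcd h1 h2 s t
    show PresentedGroup.mk _ _ * PresentedGroup.mk _ _ =
      PresentedGroup.mk _ _ * PresentedGroup.mk _ _
    rw [← map_mul, ← map_mul]
    apply mk_eq_mk_of
    intro M _ f hf
    simp only [map_mul, lift_wdX, lift_wdY]
    exact hf.ycomm a c d hcd h1 h2 s t

theorem sxQ_of_not_isRoot {a b : J n} (h : ¬ IsRoot a b) (t : F) :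
    sxQ Q0 a b t = (1 : StQ n Q0) := by
  unfold sxQ wdX
  rw [dif_neg h, map_one]

/-- the root generators generate -/
theorem closure_sQ :
    Subgroup.closure ({g : StQ n Q0 | ∃ a b, ∃ t : F, IsRoot a b ∧ g = sxQ Q0 a b t} ∪
      {g | ∃ a, ∃ w : P, g = syQ Q0 a w}) = ⊤ := by
  rw [eq_top_iff, ← PresentedGroup.closure_range_of]
  apply (Subgroup.closure_le _).mpr
  rintro _ ⟨(⟨⟨⟨a, b⟩, hab⟩, t⟩ | ⟨a, w⟩), rfl⟩
  · apply Subgroup.subset_closure
    left
    refine ⟨a, b, t, hab, ?_⟩
    unfold sxQ wdX
    rw [dif_pos hab]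
    rfl
  · apply Subgroup.subset_closure
    right
    exact ⟨a, w, rfl⟩

/-- the universal property (for groups in the universe of `F`) -/
theorem exists_liftQ {M : Type u} [Group M] {X : J n → J n → F → M} {Ys : J n → P → M}
    (h : QRel Q0 X Ys) :
    ∃ φ : StQ n Q0 →* M, (∀ a b, IsRoot a b → ∀ t : F, φ (sxQ Q0 a b t) = X a b t) ∧
      ∀ a, ∀ w : P, φ (syQ Q0 a w) = Ys a w := by
  classical
  let f : GenQ n F P → M := fun g => Sum.elim (fun p => X p.1.1.1 p.1.1.2 p.2) (fun p => Ys p.1 p.2) g
  have hfX : ∀ a b, IsRoot a b → ∀ t : F, famX f a b t = X a b t := by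
    intro a b hab t
    rw [famX_of_isRoot f hab]
    rfl
  have hfY : ∀ a, ∀ w : P, famY f a w = Ys a w := fun a t => rfl
  have hroot' : ∀ {a b : J n}, IsRoot a b → IsRoot a (ng b) := fun {a b} hab =>
    ⟨fun h => hab.2 h, fun h => hab.1 (by rw [h, ng_ng])⟩
  have hB : QRel Q0 (famX f) (famY f) := by
    refine ⟨⟨?_, ?_, ?_, ?_, ?_⟩, ?_, ?_, ?_, ?_⟩
    · intro a b hab t
      rw [hfX _ _ hab.flip, hfX _ _ hab]; exact h.dX.flip a b hab t
    · intro a b hab s t
      rw [hfX _ _ hab, hfX _ _ hab, hfX _ _ hab]; exact h.dX.add a b hab s t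
    · intro a b c hab hbc hac s t
      rw [hfX _ _ hab, hfX _ _ hbc, hfX _ _ hac]; exact h.dX.mul a b c hab hbc hac s t
    · intro a b c d hab hcd h1 h2 h3 h4 h5 h6 s t
      rw [hfX _ _ hab, hfX _ _ hcd]; exact h.dX.comm a b c d hab hcd h1 h2 h3 h4 h5 h6 s t
    · intro a b hab s t
      rw [hfX _ _ hab, hfX _ _ (hroot' hab)]; exact h.dX.orth a b hab s t
    · intro a s t
      rw [hfY, hfY, hfY]; exact h.yadd a s t
    · intro a b hab s t
      rw [hfY, hfY, hfX _ _ (hroot' hab)]; exact h.yy a b hab s t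
    · intro a b hab s t
      rw [hfY, hfY, hfX _ _ hab, hfX _ _ (hroot' hab)]; exact h.xy a b hab s t
    · intro a c d hcd h1 h2 s t
      rw [hfY, hfX _ _ hcd]; exact h.ycomm a c d hcd h1 h2 s t
  have hrel : ∀ r ∈ relsQ n Q0, FreeGroup.lift f r = 1 := fun r hr => hr M f hB
  refine ⟨PresentedGroup.toGroup hrel, ?_, ?_⟩
  · intro a b hab t
    have e : PresentedGroup.toGroup hrel (PresentedGroup.mk _ (wdX a b t)) =
        FreeGroup.lift f (wdX a b t) := rfl
    show PresentedGroup.toGroup hrel (PresentedGroup.mk _ (wdX a b t)) = X a b t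
    rw [e, lift_wdX, hfX a b hab]
  · intro a w
    have e : PresentedGroup.toGroup hrel (PresentedGroup.mk _ (wdY a w)) =
        FreeGroup.lift f (wdY a w) := rfl
    show PresentedGroup.toGroup hrel (PresentedGroup.mk _ (wdY a w)) = Ys a w
    rw [e, lift_wdY, hfY]

/-- homomorphisms from `StQ n Q0` are determined by the root generators -/
theorem hom_extQ {M : Type*} [Group M] {φ φ' : StQ n Q0 →* M}
    (h : ∀ a b, IsRoot a b → ∀ t : F, φ (sxQ Q0 a b t) = φ' (sxQ Q0 a b t))
    (h' : ∀ a, ∀ w : P, φ (syQ Q0 a w) = φ' (syQ Q0 a w)) : φ = φ' := by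
  apply MonoidHom.eq_of_eqOn_dense (closure_sQ (n := n) (Q0 := Q0))
  rintro _ (⟨a, b, t, hab, rfl⟩ | ⟨a, w, rfl⟩)
  · exact h a b hab t
  · exact h' a w

end pres

end Cfsg.Agent.S2099P
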