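import Mathlib
import Cfsg.Agent.Helper2.S2099.Defs
import Cfsg.Agent.Helper2.S2094.DefsR
import Cfsg.Agent.Helper2.RGD.Defs
import Cfsg.Agent.Helper23.S3352POSCOMB
import Cfsg.Agent.Helper2.S3352.WConj

set_option autoImplicit false
set_option linter.unusedSectionVars false
set_option linter.unusedVariables false

/-! S2099: Weyl and torus elements of the short roots, the root subgroups and the root group datum
(`Cfsg.Agent.RGD.Datum`) of a group with the relations `QRel`. The names of the roots of `B_n`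
(`RB n`, `RootB n`, `RB.map`, `RB.neg`, `RB.alt`, `RB.Pos`, `RB.Simple`, `RB.perm`, `sc`,
`NgEquivariant`, `mapB`, `reflB`) and the subgroup `MD X` generated by the long root elements are
those of S2094 (`Cfsg.Agent.Helper2.S2094.DefsR`, namespace `Cfsg.Agent.S2094P`). -/

namespace Cfsg.Agent.S2099P

open Matrix Cfsg.Agent.S3352P Cfsg.Agent.S3351P Cfsg.Agent.S2096P Cfsg.Agent.RGD
open Cfsg.Agent.S2094P (RB RootB sc NgEquivariant mapB reflB MD XD XD_coe isRoot_ng_right'
  isRoot_ng_left' sw_ngEquivariant sc_ngEquivariant)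

variable {n : ℕ} {F : Type*} [Field F] {P : Type*} [AddCommGroup P] [Module F P]
  {M : Type*} [Group M]

/-- the reflection of the quadratic space `(P, Q0)` in the vector `w` -/
def rfl0 (Q0 : QuadraticForm F P) (w u : P) : P :=
  u - ((QuadraticMap.polar Q0 u w) * (Q0 w)⁻¹) • w

/-- Weyl elements of the short roots -/
def wY (Q0 : QuadraticForm F P) (Ys : J n → P → M) (a : J n) (w : P) : M :=
  Ys a w * Ys (ng a) ((Q0 w)⁻¹ • w) * Ys a w

/-- torus elements of the short roots, relative to a base vector `e₁` (with `Q0 e₁ = 1`) -/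
def tY (Q0 : QuadraticForm F P) (Ys : J n → P → M) (e₁ : P) (a : J n) (w : P) : M :=
  wY Q0 Ys a w * (wY Q0 Ys a e₁)⁻¹

/-- the root subgroups -/
def UQ (X : J n → J n → F → M) (Ys : J n → P → M) : RB n → Subgroup M
  | RB.lg a b => Subgroup.closure {g | ∃ t : F, g = X a b t}
  | RB.sh a => Subgroup.closure {g | ∃ w : P, g = Ys a w}

/-- the Weyl elements of a root -/
def nSQ (Q0 : QuadraticForm F P) (X : J n → J n → F → M) (Ys : J n → P → M) : RB n → Set M
  | RB.lg a b => {g | ∃ t : F, t ≠ 0 ∧ g = wX X a b t}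
  | RB.sh a => {g | ∃ w : P, w ≠ 0 ∧ g = wY Q0 Ys a w}

/-- the torus of a group with the relations `QRel` -/
def HhQ (Q0 : QuadraticForm F P) (X : J n → J n → F → M) (Ys : J n → P → M) : Subgroup M :=
  Subgroup.closure ({g | ∃ a b, ∃ t : F, IsRoot a b ∧ t ≠ 0 ∧ g = tX X a b t} ∪
    {g | ∃ a, ∃ w v : P, w ≠ 0 ∧ v ≠ 0 ∧ g = wY Q0 Ys a w * (wY Q0 Ys a v)⁻¹})

/-- the root group datum of a group with root elements of relative type `B_n` -/
def datumQ (Q0 : QuadraticForm F P) (X : J n → J n → F → M) (Ys : J n → P → M) :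
    Datum M (RootB n) where
  U r := UQ X Ys r.1
  neg r := ⟨r.1.neg, RB.valid_neg r.2⟩
  alt r := ⟨r.1.alt, RB.valid_alt r.2⟩
  Pos r := r.1.Pos
  Simple r := r.1.Simple
  refl := reflB
  nS r := nSQ Q0 X Ys r.1
  T := HhQ Q0 X Ys

/-- `g` permutes the root subgroups through a permutation of the signed indices -/
def RootPQ (X : J n → J n → F → M) (Ys : J n → P → M) (g : M) : Prop :=
  ∃ σ : Equiv.Perm (J n), NgEquivariant σ ∧
    (∀ a b, IsRoot a b → ∀ t : F, ∃ t' : F, g * X a b t * g⁻¹ = X (σ a) (σ b) t') ∧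
    ∀ a, ∀ w : P, ∃ w' : P, g * Ys a w * g⁻¹ = Ys (σ a) w'

/-- `g` normalizes every root subgroup -/
def DiagPQ (X : J n → J n → F → M) (Ys : J n → P → M) (g : M) : Prop :=
  (∀ a b, IsRoot a b → ∀ t : F, ∃ t' : F, g * X a b t * g⁻¹ = X a b t') ∧
    ∀ a, ∀ w : P, ∃ w' : P, g * Ys a w * g⁻¹ = Ys a w'

/-- the lift of the sign change at `j` -/
def cQ (Q0 : QuadraticForm F P) (Ys : J n → P → M) (e₁ : P) (j : Fin n) : M :=
  wY Q0 Ys (Sum.inl j) e₁

/-- the subgroup generated by the sign changes -/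
def CSQ (Q0 : QuadraticForm F P) (Ys : J n → P → M) (e₁ : P) : Subgroup M :=
  Subgroup.closure {g | ∃ j : Fin n, g = cQ Q0 Ys e₁ j}

/-- the position of an index of the matrices in the order
`e_0 < … < e_{n-1} < κ < f_{n-1} < … < f_0` -/
def rkQ {κ : Type} : IQ n κ → ℕ
  | Sum.inr _ => n
  | Sum.inl (Sum.inl i) => i.val
  | Sum.inl (Sum.inr i) => 2 * n - i.val

/-- the extension of a map of the signed indices to the indices of the matrices (fixing `κ`) -/
def extQ {κ : Type} (σ : J n → J n) : IQ n κ → IQ n κ := Sum.map σ id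

/-! ### basic consequences of the relations -/

section basic

variable {Q0 : QuadraticForm F P} {X : J n → J n → F → M} {Ys : J n → P → M}

theorem Ys_zero (hB : QRel Q0 X Ys) (a : J n) : Ys a (0 : P) = 1 := by
  have h := hB.yadd a 0 0
  rw [add_zero] at h
  exact (mul_eq_left (a := Ys a (0 : P))).1 h.symm

theorem Ys_inv (hB : QRel Q0 X Ys) (a : J n) (w : P) : (Ys a w)⁻¹ = Ys a (-w) := by
  apply inv_eq_of_mul_eq_one_right
  rw [← hB.yadd, add_neg_cancel, Ys_zero hB]

theorem Ys_neg (hB : QRel Q0 X Ys) (a : J n) (w : P) : Ys a (-w) = (Ys a w)⁻¹ :=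
  (Ys_inv hB a w).symm

theorem Ys_comm (hB : QRel Q0 X Ys) (a : J n) (w v : P) :
    Ys a w * Ys a v = Ys a v * Ys a w := by
  rw [← hB.yadd, ← hB.yadd, add_comm]

/-- the elements of a short root subgroup -/
theorem mem_U_sh (hB : QRel Q0 X Ys) (a : J n) {g : M} :
    g ∈ UQ X Ys (RB.sh a : RB n) ↔ ∃ w : P, g = Ys a w := by
  constructor
  · intro hg
    induction hg using Subgroup.closure_induction with
    | mem x hx => exact hx
    | one => exact ⟨0, (Ys_zero hB a).symm⟩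
    | mul x y _ _ hx hy =>
      obtain ⟨s, rfl⟩ := hx
      obtain ⟨t, rfl⟩ := hy
      exact ⟨s + t, (hB.yadd a s t).symm⟩
    | inv x _ hx =>
      obtain ⟨s, rfl⟩ := hx
      exact ⟨-s, Ys_inv hB a s⟩
  · rintro ⟨t, rfl⟩
    exact Subgroup.subset_closure ⟨t, rfl⟩

/-- the elements of a long root subgroup -/
theorem mem_U_lg (hB : QRel Q0 X Ys) {a b : J n} (hab : IsRoot a b) {g : M} :
    g ∈ UQ X Ys (RB.lg a b : RB n) ↔ ∃ t : F, g = X a b t := by
  constructor
  · intro hg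
    induction hg using Subgroup.closure_induction with
    | mem x hx => exact hx
    | one => exact ⟨0, (WCONJ.X_zero hB.dX hab).symm⟩
    | mul x y _ _ hx hy =>
      obtain ⟨s, rfl⟩ := hx
      obtain ⟨t, rfl⟩ := hy
      exact ⟨s + t, (hB.dX.add a b hab s t).symm⟩
    | inv x _ hx =>
      obtain ⟨s, rfl⟩ := hx
      exact ⟨-s, WCONJ.X_inv hB.dX hab s⟩
  · rintro ⟨t, rfl⟩
    exact Subgroup.subset_closure ⟨t, rfl⟩

/-- `tY` lies in the torus -/
theorem tY_mem_HhQ (e₁ : P) (he₁ : e₁ ≠ 0) (a : J n) {w : P} (hw : w ≠ 0) :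
    tY Q0 Ys e₁ a w ∈ HhQ Q0 X Ys :=
  Subgroup.subset_closure (Or.inr ⟨a, w, e₁, hw, he₁, rfl⟩)

theorem tX_mem_HhQ {a b : J n} (hab : IsRoot a b) {t : F} (ht : t ≠ 0) :
    tX X a b t ∈ HhQ Q0 X Ys :=
  Subgroup.subset_closure (Or.inl ⟨a, b, t, hab, ht, rfl⟩)

/-- the quadratic form is invariant under reflections -/
theorem Q0_rfl0 (w u : P) (hw : Q0 w ≠ 0) : Q0 (rfl0 Q0 w u) = Q0 u := by
  unfold rfl0
  rw [sub_eq_add_neg, ← neg_smul, QuadraticMap.map_add Q0, QuadraticMap.map_smul,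
    QuadraticMap.polar_smul_right, smul_eq_mul, smul_eq_mul]
  field_simp
  ring

end basic

end Cfsg.Agent.S2099P
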