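import Mathlib
import Cfsg.Agent.Helper2.S2099.DefsR
import Cfsg.Agent.Helper2.S2094.DefsA

set_option autoImplicit false
set_option linter.unusedSectionVars false
set_option linter.unusedVariables false

/-! S2099 chapter A (central closedness, ALL `q`): definitions.

`ψ : E →* G` is a central extension of a group `G` with the relations `QRel Q0 X Ys`.
* `Rot Q0 X Ys h₀ R D`: the element `h₀` of `G` centralizes the long root elements and acts on every
  short root group through the isometry `R` of `(P, Q0)`, with `R - 1` invertible (`D` its inverse)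
  (for `Ω⁻`: `h₀ = tK Ys c l`, `l` of norm one, `l² ≠ 1`; `R` = multiplication by `l²`);
* `YS Ys ψ hψ h₀ D a w = cl ψ hψ h₀ (Ys a (D w))`: the canonical lifts of the short root elements;
* the canonical lifts of the long root elements are `Y X ψ hψ hn a b t` (S2096); `LongOK` (S2094). -/

namespace Cfsg.Agent.S2099P

open Cfsg.Agent.S3352P Cfsg.Agent.S3351P Cfsg.Agent.S2096P Cfsg.Agent.S2086P
open scoped commutatorElement

variable {n : ℕ} {F : Type*} [Field F] {P : Type*} [AddCommGroup P] [Module F P]
  {G : Type*} [Group G] {E : Type*} [Group E]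

/-- a torus element centralizing the long root elements and rotating the short root groups without
fixed points -/
structure Rot (Q0 : QuadraticForm F P) (X : J n → J n → F → G) (Ys : J n → P → G) (h₀ : G)
    (R D : P →ₗ[F] P) : Prop where
  commX : ∀ a b, IsRoot a b → ∀ t : F, h₀ * X a b t = X a b t * h₀
  conjY : ∀ a, ∀ w : P, h₀ * Ys a w * h₀⁻¹ = Ys a (R w)
  isom : ∀ w, Q0 (R w) = Q0 w
  inv₁ : ∀ w, R (D w) - D w = w
  inv₂ : ∀ w, D (R w - w) = w

/-- the canonical lifts of the short root elements -/
noncomputable def YS (Ys : J n → P → G) (ψ : E →* G) (hψ : Function.Surjective ψ) (h₀ : G)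
    (D : P →ₗ[F] P) (a : J n) (w : P) : E :=
  cl ψ hψ h₀ (Ys a (D w))

theorem Rot.comm_RD {Q0 : QuadraticForm F P} {X : J n → J n → F → G} {Ys : J n → P → G} {h₀ : G}
    {R D : P →ₗ[F] P} (hR : Rot Q0 X Ys h₀ R D) (w : P) : R (D w) = D (R w) := by
  have h1 : R (D w) = D w + w := by
    have := hR.inv₁ w
    rw [sub_eq_iff_eq_add] at this
    rw [this, add_comm]
  have h2 : D (R w) = D (R w - w) + D w := by
    rw [← map_add, sub_add_cancel]
  rw [h1, h2, hR.inv₂, add_comm]

theorem Rot.polar {Q0 : QuadraticForm F P} {X : J n → J n → F → G} {Ys : J n → P → G} {h₀ : G}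
    {R D : P →ₗ[F] P} (hR : Rot Q0 X Ys h₀ R D) (w v : P) :
    QuadraticMap.polar Q0 (R w) (R v) = QuadraticMap.polar Q0 w v := by
  unfold QuadraticMap.polar
  rw [← map_add, hR.isom, hR.isom, hR.isom]

end Cfsg.Agent.S2099P
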