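import Mathlib
import Cfsg.Agent.Helper2.S2099.DefsR

set_option autoImplicit false
set_option linter.unusedSectionVars false
set_option linter.unusedVariables false

/-! S2099: the anisotropic binary form `z₀² + a z₀ z₁ + b z₁²` and the matrices of `Ω⁻`. -/

namespace Cfsg.Agent.S2099P

open Matrix Cfsg.Agent.S3352P Cfsg.Agent.S3351P Cfsg.Agent.S2096P

variable {F : Type*} [Field F]

/-- the binary quadratic form `z₀² + a z₀ z₁ + b z₁²` -/
def qf2 (a b : F) : QuadraticForm F (Fin 2 → F) :=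
  QuadraticMap.linMulLin (LinearMap.proj 0) (LinearMap.proj 0) +
    a • QuadraticMap.linMulLin (LinearMap.proj 0) (LinearMap.proj 1) +
    b • QuadraticMap.linMulLin (LinearMap.proj 1) (LinearMap.proj 1)

theorem qf2_apply (a b : F) (w : Fin 2 → F) :
    qf2 a b w = w 0 ^ 2 + a * w 0 * w 1 + b * w 1 ^ 2 := by
  unfold qf2
  simp only [_root_.add_apply, _root_.smul_apply, QuadraticMap.linMulLin_apply,
    LinearMap.proj_apply, smul_eq_mul]
  ring

theorem polar_qf2 (a b : F) (w v : Fin 2 → F) :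
    QuadraticMap.polar (qf2 a b) w v =
      2 * w 0 * v 0 + a * (w 0 * v 1 + w 1 * v 0) + 2 * b * w 1 * v 1 := by
  unfold QuadraticMap.polar
  rw [qf2_apply, qf2_apply, qf2_apply]
  simp only [Pi.add_apply]
  ring

/-- the base vector -/
def e1 : Fin 2 → F := Pi.single 0 1

theorem qf2_e1 (a b : F) : qf2 a b (e1 : Fin 2 → F) = 1 := by
  rw [qf2_apply]
  simp [e1]

theorem e1_ne_zero : (e1 : Fin 2 → F) ≠ 0 := by
  intro h
  have := congrFun h 0
  simp [e1] at this

theorem anisotropic_qf2 {a b : F}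
    (hab : ∀ z₁ z₂ : F, z₁ ^ 2 + a * z₁ * z₂ + b * z₂ ^ 2 = 0 → z₁ = 0 ∧ z₂ = 0) :
    QuadraticMap.Anisotropic (qf2 a b) := by
  intro w hw
  rw [qf2_apply] at hw
  obtain ⟨h0, h1⟩ := hab _ _ hw
  funext i
  fin_cases i
  · exact h0
  · exact h1

/-- the matrix of an element of `Ω⁻_{2n+2}(F)` -/
def coeΩQ (n : ℕ) (a b : F) :
    ↥(Cfsg.Omega F (Cfsg.quadFormMinus n F a b)) →* Matrix (IQ n (Fin 2)) (IQ n (Fin 2)) F :=
  (Units.coeHom (Matrix (IQ n (Fin 2)) (IQ n (Fin 2)) F)).comp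
    ((Cfsg.isometryGroup F (Cfsg.quadFormMinus n F a b)).subtype.comp
      (Cfsg.Omega F (Cfsg.quadFormMinus n F a b)).subtype)

theorem coeΩQ_injective (n : ℕ) (a b : F) : Function.Injective (coeΩQ n a b) := by
  intro x y h
  apply Subtype.ext
  apply Subtype.ext
  apply Units.ext
  exact h

end Cfsg.Agent.S2099P
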