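import Mathlib
import Cfsg.Agent.Helper2.S2099.DefsM

set_option autoImplicit false
set_option linter.unusedSectionVars false
set_option linter.unusedVariables false

/-! S2099 chapter Z: the quadratic extension `K = F[θ]`, `θ² = a θ - b`, whose norm form is the
anisotropic binary form `z₀² + a z₀ z₁ + b z₁²`; elements are pairs `(re, im)` = `re + im θ`. -/

namespace Cfsg.Agent.S2099P

variable {F : Type*} [Field F]

/-- the binary form `z₀² + a z₀ z₁ + b z₁²` is anisotropic -/
class Aniso (a b : F) : Prop where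
  out : ∀ z₁ z₂ : F, z₁ ^ 2 + a * z₁ * z₂ + b * z₂ ^ 2 = 0 → z₁ = 0 ∧ z₂ = 0

/-- the quadratic algebra `F[θ]`, `θ² = a θ - b` -/
@[ext]
structure QK (a b : F) where
  re : F
  im : F

namespace QK

variable {a b : F}

instance : Zero (QK a b) := ⟨⟨0, 0⟩⟩
instance : One (QK a b) := ⟨⟨1, 0⟩⟩
instance : Add (QK a b) := ⟨fun x y => ⟨x.re + y.re, x.im + y.im⟩⟩
instance : Neg (QK a b) := ⟨fun x => ⟨-x.re, -x.im⟩⟩
instance : Sub (QK a b) := ⟨fun x y => ⟨x.re - y.re, x.im - y.im⟩⟩
instance : Mul (QK a b) :=
  ⟨fun x y => ⟨x.re * y.re - b * (x.im * y.im), x.re * y.im + x.im * y.re + a * (x.im * y.im)⟩⟩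
instance : SMul F (QK a b) := ⟨fun c x => ⟨c * x.re, c * x.im⟩⟩
instance : SMul ℕ (QK a b) := ⟨fun c x => ⟨c • x.re, c • x.im⟩⟩
instance : SMul ℤ (QK a b) := ⟨fun c x => ⟨c • x.re, c • x.im⟩⟩
instance : NatCast (QK a b) := ⟨fun m => ⟨(m : F), 0⟩⟩
instance : IntCast (QK a b) := ⟨fun m => ⟨(m : F), 0⟩⟩

@[simp] theorem zero_re : (0 : QK a b).re = 0 := rfl
@[simp] theorem zero_im : (0 : QK a b).im = 0 := rfl
@[simp] theorem one_re : (1 : QK a b).re = 1 := rfl
@[simp] theorem one_im : (1 : QK a b).im = 0 := rfl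
@[simp] theorem add_re (x y : QK a b) : (x + y).re = x.re + y.re := rfl
@[simp] theorem add_im (x y : QK a b) : (x + y).im = x.im + y.im := rfl
@[simp] theorem neg_re (x : QK a b) : (-x).re = -x.re := rfl
@[simp] theorem neg_im (x : QK a b) : (-x).im = -x.im := rfl
@[simp] theorem sub_re (x y : QK a b) : (x - y).re = x.re - y.re := rfl
@[simp] theorem sub_im (x y : QK a b) : (x - y).im = x.im - y.im := rfl
@[simp] theorem mul_re (x y : QK a b) : (x * y).re = x.re * y.re - b * (x.im * y.im) := rfl
@[simp] theorem mul_im (x y : QK a b) :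
    (x * y).im = x.re * y.im + x.im * y.re + a * (x.im * y.im) := rfl
@[simp] theorem smul_re (c : F) (x : QK a b) : (c • x).re = c * x.re := rfl
@[simp] theorem smul_im (c : F) (x : QK a b) : (c • x).im = c * x.im := rfl
@[simp] theorem nsmul_re (c : ℕ) (x : QK a b) : (c • x).re = c • x.re := rfl
@[simp] theorem nsmul_im (c : ℕ) (x : QK a b) : (c • x).im = c • x.im := rfl
@[simp] theorem zsmul_re (c : ℤ) (x : QK a b) : (c • x).re = c • x.re := rfl
@[simp] theorem zsmul_im (c : ℤ) (x : QK a b) : (c • x).im = c • x.im := rfl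
@[simp] theorem natCast_re (m : ℕ) : ((m : QK a b)).re = (m : F) := rfl
@[simp] theorem natCast_im (m : ℕ) : ((m : QK a b)).im = 0 := rfl
@[simp] theorem intCast_re (m : ℤ) : ((m : QK a b)).re = (m : F) := rfl
@[simp] theorem intCast_im (m : ℤ) : ((m : QK a b)).im = 0 := rfl

instance : CommRing (QK a b) where
  add_assoc x y z := by ext <;> simp [add_assoc]
  zero_add x := by ext <;> simp
  add_zero x := by ext <;> simp
  add_comm x y := by ext <;> simp [add_comm]
  neg_add_cancel x := by ext <;> simp
  sub_eq_add_neg x y := by ext <;> simp [sub_eq_add_neg]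
  nsmul := (· • ·)
  nsmul_zero x := by ext <;> simp
  nsmul_succ m x := by ext <;> simp [add_smul]
  zsmul := (· • ·)
  zsmul_zero' x := by ext <;> simp
  zsmul_succ' m x := by ext <;> simp [add_smul]
  zsmul_neg' m x := by
    ext <;> simp only [zsmul_re, zsmul_im, neg_re, neg_im, negSucc_zsmul] <;> simp [add_smul]
  mul_assoc x y z := by ext <;> simp <;> ring
  one_mul x := by ext <;> simp
  mul_one x := by ext <;> simp
  zero_mul x := by ext <;> simp
  mul_zero x := by ext <;> simp
  left_distrib x y z := by ext <;> simp <;> ring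
  right_distrib x y z := by ext <;> simp <;> ring
  mul_comm x y := by ext <;> simp <;> ring
  natCast_zero := by ext <;> simp
  natCast_succ m := by ext <;> simp
  intCast_ofNat m := by ext <;> simp
  intCast_negSucc m := by ext <;> simp [add_comm]

/-- the conjugation `θ ↦ a - θ` -/
def conj (x : QK a b) : QK a b := ⟨x.re + a * x.im, -x.im⟩

/-- the norm -/
def nrm (x : QK a b) : F := x.re ^ 2 + a * x.re * x.im + b * x.im ^ 2

@[simp] theorem conj_re (x : QK a b) : (conj x).re = x.re + a * x.im := rfl
@[simp] theorem conj_im (x : QK a b) : (conj x).im = -x.im := rfl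

instance : Algebra F (QK a b) where
  algebraMap :=
    { toFun := fun c => ⟨c, 0⟩
      map_one' := rfl
      map_mul' := fun x y => by ext <;> simp
      map_zero' := rfl
      map_add' := fun x y => by ext <;> simp }
  commutes' c x := by ext <;> simp <;> ring
  smul_def' c x := by ext <;> simp

@[simp] theorem algebraMap_re (c : F) : (algebraMap F (QK a b) c).re = c := rfl
@[simp] theorem algebraMap_im (c : F) : (algebraMap F (QK a b) c).im = 0 := rfl

theorem mul_conj (x : QK a b) : x * conj x = algebraMap F (QK a b) (nrm x) := by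
  ext <;> simp only [mul_re, mul_im, conj_re, conj_im, algebraMap_re, algebraMap_im, nrm] <;> ring

theorem nrm_eq_zero [Aniso a b] {x : QK a b} (h : nrm x = 0) : x = 0 := by
  obtain ⟨h1, h2⟩ := Aniso.out (a := a) (b := b) x.re x.im h
  ext
  · exact h1
  · exact h2

noncomputable instance [Aniso a b] : Inv (QK a b) := ⟨fun x => (nrm x)⁻¹ • conj x⟩

theorem inv_def [Aniso a b] (x : QK a b) : x⁻¹ = (nrm x)⁻¹ • conj x := rfl

noncomputable instance instField [Aniso a b] : Field (QK a b) where
  exists_pair_ne := ⟨0, 1, fun h => zero_ne_one (congrArg QK.re h)⟩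
  mul_inv_cancel x hx := by
    have hn : nrm x ≠ 0 := fun h => hx (nrm_eq_zero h)
    rw [inv_def, mul_smul_comm, mul_conj, Algebra.smul_def, ← map_mul, inv_mul_cancel₀ hn,
      map_one]
  inv_zero := by
    rw [inv_def]
    ext <;> simp [nrm]
  nnqsmul := _
  nnqsmul_def := fun _ _ => rfl
  qsmul := _
  qsmul_def := fun _ _ => rfl

/-- the coordinates -/
def toP (x : QK a b) : Fin 2 → F := ![x.re, x.im]

/-- the element with given coordinates -/
def ofP (w : Fin 2 → F) : QK a b := ⟨w 0, w 1⟩

@[simp] theorem toP_zero_apply (x : QK a b) : toP x 0 = x.re := rfl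
@[simp] theorem toP_one_apply (x : QK a b) : toP x 1 = x.im := rfl
@[simp] theorem ofP_re (w : Fin 2 → F) : (ofP w : QK a b).re = w 0 := rfl
@[simp] theorem ofP_im (w : Fin 2 → F) : (ofP w : QK a b).im = w 1 := rfl

@[simp] theorem ofP_toP (x : QK a b) : ofP (toP x) = x := rfl

@[simp] theorem toP_ofP (w : Fin 2 → F) : toP (ofP w : QK a b) = w := by
  funext i
  fin_cases i <;> rfl

theorem toP_add (x y : QK a b) : toP (x + y) = toP x + toP y := by
  funext i
  fin_cases i <;> rfl

theorem toP_smul (c : F) (x : QK a b) : toP (c • x) = c • toP x := by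
  funext i
  fin_cases i <;> rfl

theorem toP_neg (x : QK a b) : toP (-x) = -toP x := by
  funext i
  fin_cases i <;> rfl

theorem toP_one : toP (1 : QK a b) = e1 := by
  funext i
  fin_cases i <;> simp [toP, e1]

theorem toP_injective : Function.Injective (toP : QK a b → Fin 2 → F) := by
  intro x y h
  have := congrArg (ofP : _ → QK a b) h
  simpa using this

theorem toP_eq_zero {x : QK a b} : toP x = 0 ↔ x = 0 := by
  constructor
  · intro h
    apply toP_injective
    rw [h]
    funext i
    fin_cases i <;> rfl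
  · rintro rfl
    funext i
    fin_cases i <;> rfl

theorem qf2_toP (x : QK a b) : qf2 a b (toP x) = nrm x := by
  rw [qf2_apply]
  rfl

theorem nrm_mul (x y : QK a b) : nrm (x * y) = nrm x * nrm y := by
  simp only [nrm, mul_re, mul_im]
  ring

theorem nrm_one : nrm (1 : QK a b) = 1 := by
  simp [nrm]

theorem nrm_algebraMap (c : F) : nrm (algebraMap F (QK a b) c) = c ^ 2 := by
  simp [nrm]

theorem conj_mul (x y : QK a b) : conj (x * y) = conj x * conj y := by
  ext <;> simp <;> ring

theorem conj_add (x y : QK a b) : conj (x + y) = conj x + conj y := by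
  ext <;> simp <;> ring

theorem conj_conj (x : QK a b) : conj (conj x) = x := by
  ext <;> simp

theorem conj_algebraMap (c : F) : conj (algebraMap F (QK a b) c) = algebraMap F (QK a b) c := by
  ext <;> simp

theorem nrm_conj (x : QK a b) : nrm (conj x) = nrm x := by
  simp only [nrm, conj_re, conj_im]
  ring

theorem polar_toP (x y : QK a b) :
    QuadraticMap.polar (qf2 a b) (toP x) (toP y) = (x * conj y).re + (y * conj x).re := by
  rw [polar_qf2]
  simp
  ring

/-- `K` is in bijection with `F × F` -/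
def equivProd : QK a b ≃ F × F :=
  ⟨fun x => (x.re, x.im), fun p => ⟨p.1, p.2⟩, fun _ => rfl, fun _ => rfl⟩

instance [Finite F] : Finite (QK a b) := Finite.of_equiv _ equivProd.symm

end QK

open Cfsg.Agent.S3352P Cfsg.Agent.S3351P

/-- the torus element of the short root `c` with parameter `l ∈ K` -/
def tK {n : ℕ} {a b : F} {M : Type*} [Group M] (Ys : J n → (Fin 2 → F) → M) (c : J n)
    (l : QK a b) : M :=
  tY (qf2 a b) Ys e1 c (QK.toP l)

end Cfsg.Agent.S2099P
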