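import Mathlib
import Cfsg.Agent.Helper2.S2099.DefsR

set_option autoImplicit false
set_option linter.unusedSectionVars false
set_option linter.unusedVariables false

/-! S2099 chapter N: the matrix of the rotation `rfl0 w ∘ rfl0 e₁` of the anisotropic space. -/

namespace Cfsg.Agent.S2099P

open Matrix Cfsg.Agent.S3352P Cfsg.Agent.S3351P Cfsg.Agent.S2096P

variable {F : Type*} [Field F] {κ : Type} [Fintype κ] [DecidableEq κ]

/-- the matrix of the rotation `rfl0 w ∘ rfl0 e₁` -/
def rotM (Q0 : QuadraticForm F (κ → F)) (e₁ w : κ → F) : Matrix κ κ F :=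
  Matrix.of fun k k' => rfl0 Q0 w (rfl0 Q0 e₁ (Pi.single k' 1)) k

/-- `rfl0 w` as a linear map -/
def rfl0L {P : Type*} [AddCommGroup P] [Module F P] (Q0 : QuadraticForm F P) (w : P) :
    P →ₗ[F] P where
  toFun u := rfl0 Q0 w u
  map_add' u v := by
    unfold rfl0
    rw [QuadraticMap.polar_add_left, add_mul, add_smul]
    abel
  map_smul' c u := by
    unfold rfl0
    rw [QuadraticMap.polar_smul_left, RingHom.id_apply, smul_sub, smul_smul, smul_eq_mul, mul_assoc]

theorem rfl0L_apply {P : Type*} [AddCommGroup P] [Module F P] (Q0 : QuadraticForm F P) (w u : P) :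
    rfl0L Q0 w u = rfl0 Q0 w u := rfl

theorem rotM_mulVec (Q0 : QuadraticForm F (κ → F)) (e₁ w z : κ → F) :
    (rotM Q0 e₁ w).mulVec z = rfl0 Q0 w (rfl0 Q0 e₁ z) := by
  have h : (rotM Q0 e₁ w) = LinearMap.toMatrix' ((rfl0L Q0 w).comp (rfl0L Q0 e₁)) := by
    ext k k'
    rw [LinearMap.toMatrix'_apply]
    rfl
  rw [h, LinearMap.toMatrix'_mulVec]
  rfl

end Cfsg.Agent.S2099P
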