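import Mathlib
import Cfsg.Agent.Helper2.S2099.DefsR
import Cfsg.Agent.Helper2.S2096.DefsC

set_option autoImplicit false
set_option linter.unusedSectionVars false
set_option linter.unusedVariables false

/-! S2099 chapter C (the spin representation of twisted type `²D_{n+1}`): definitions.

`CARQ Q0 ψ ψW`: the relations of the Clifford algebra of the form `Σ x_i y_i + Q0 z` for the
standard basis of the hyperbolic part (`ψ a`, as in S2096) and the vectors of the anisotropic part
(`ψW w`, linear in `w`, `ψW w ^ 2 = Q0 w`, anticommuting with the `ψ a`); `YcQ ψ ψW a w` is the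
unit `1 + ψ_a ψW(w)`, the lift of the short root element `ymQ Q0 a w`. -/

namespace Cfsg.Agent.S2099P

open Cfsg.Agent.S3352P Cfsg.Agent.S3351P Cfsg.Agent.S2096P

variable {n : ℕ} {F : Type*} [Field F] {P : Type*} [AddCommGroup P] [Module F P]
  {A : Type*} [Ring A] [Algebra F A]

/-- the relations of the Clifford algebra of `Σ x_i y_i + Q0 z` -/
structure CARQ (Q0 : QuadraticForm F P) (ψ : J n → A) (ψW : P →ₗ[F] A) : Prop where
  car : CAR ψ
  sqW : ∀ w, ψW w * ψW w = algebraMap F A (Q0 w)
  antiW : ∀ a w, ψW w * ψ a = -(ψ a * ψW w)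

/-- the element `1 + ψ_a ψW(w)` of the algebra -/
def ycQ (ψ : J n → A) (ψW : P →ₗ[F] A) (a : J n) (w : P) : A := 1 + ψ a * ψW w

/-- the unit `1 + ψ_a ψW(w)` (junk if it is not a unit) -/
noncomputable def YcQ (ψ : J n → A) (ψW : P →ₗ[F] A) (a : J n) (w : P) : Aˣ := by
  classical
  exact if h : IsUnit (ycQ ψ ψW a w) then h.unit else 1

end Cfsg.Agent.S2099P
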