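import Mathlib
import Cfsg.Agent.Helper2.S2099.DefsC

set_option autoImplicit false
set_option linter.unusedSectionVars false
set_option linter.unusedVariables false

/-! S2099 chapter C, piece CLCARQ (hedge copy by helper2): the Clifford algebra of
`Σ x_i y_i + Q0 z` carries a family satisfying the relations `CARQ`. -/

namespace Cfsg.Agent.S2099P

open Cfsg.Agent.S3352P Cfsg.Agent.S3351P Cfsg.Agent.S2096P

universe u

namespace CLCARQ

variable {F : Type u} [Field F]

/-- the hyperbolic form `Σ x_{e_i} x_{f_i}` -/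
noncomputable def Qh (n : ℕ) (F : Type u) [Field F] : QuadraticForm F (J n → F) :=
  ∑ i : Fin n, QuadraticMap.linMulLin (LinearMap.proj (Sum.inl i)) (LinearMap.proj (Sum.inr i))

theorem Qh_apply (n : ℕ) (x : J n → F) :
    Qh n F x = ∑ i : Fin n, x (Sum.inl i) * x (Sum.inr i) := by
  unfold Qh
  rw [_root_.sum_apply]
  rfl

theorem polar_Qh (n : ℕ) (x y : J n → F) :
    QuadraticMap.polar (Qh n F) x y =
      ∑ i : Fin n, (x (Sum.inl i) * y (Sum.inr i) + y (Sum.inl i) * x (Sum.inr i)) := by
  unfold QuadraticMap.polar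
  rw [Qh_apply, Qh_apply, Qh_apply, ← Finset.sum_sub_distrib, ← Finset.sum_sub_distrib]
  apply Finset.sum_congr rfl
  intro i _
  simp only [Pi.add_apply]
  ring

theorem Qh_single (n : ℕ) (a : J n) : Qh n F (Pi.single a 1) = 0 := by
  classical
  rw [Qh_apply]
  rcases a with i | i <;> simp [Pi.single_apply]

theorem polar_Qh_single (n : ℕ) (a b : J n) :
    QuadraticMap.polar (Qh n F) (Pi.single a (1 : F)) (Pi.single b 1) =
      if b = ng a then 1 else 0 := by
  classical
  rw [polar_Qh]
  rcases a with i | i <;> rcases b with j | j <;>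
    simp [Pi.single_apply, ng, eq_comm]

end CLCARQ

open CLCARQ

/-- CLCARQ -/
theorem exists_carQ (n : ℕ) (F : Type u) [Field F] (h2 : (2 : F) ≠ 0) {P : Type u}
    [AddCommGroup P] [Module F P] (Q0 : QuadraticForm F P) :
    ∃ (A : Type u) (_ : Ring A) (_ : Algebra F A) (ψ : J n → A) (ψW : P →ₗ[F] A),
      Nontrivial A ∧ CARQ Q0 ψ ψW := by
  classical
  have : Invertible (2 : F) := invertibleOfNonzero h2
  set Q : QuadraticForm F ((J n → F) × P) := (Qh n F).prod Q0 with hQ
  have hQa : ∀ (x : J n → F) (w : P), Q (x, w) = Qh n F x + Q0 w := fun x w => rfl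
  have hpol : ∀ (x y : J n → F) (w v : P), QuadraticMap.polar Q (x, w) (y, v) =
      QuadraticMap.polar (Qh n F) x y + QuadraticMap.polar Q0 w v := by
    intro x y w v
    unfold QuadraticMap.polar
    rw [Prod.mk_add_mk, hQa, hQa, hQa]
    ring
  refine ⟨CliffordAlgebra Q, inferInstance, inferInstance,
    fun a => CliffordAlgebra.ι Q (Pi.single a 1, 0),
    (CliffordAlgebra.ι Q).comp (LinearMap.inr F (J n → F) P), inferInstance, ⟨⟨?_, ?_, ?_⟩, ?_, ?_⟩⟩
  · intro a
    show CliffordAlgebra.ι Q (Pi.single a 1, 0) * CliffordAlgebra.ι Q (Pi.single a 1, 0) = 0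
    rw [CliffordAlgebra.ι_sq_scalar, hQa, Qh_single, map_zero, add_zero, map_zero]
  · intro a b hb
    show CliffordAlgebra.ι Q (Pi.single a 1, 0) * CliffordAlgebra.ι Q (Pi.single b 1, 0) =
      -(CliffordAlgebra.ι Q (Pi.single b 1, 0) * CliffordAlgebra.ι Q (Pi.single a 1, 0))
    have := CliffordAlgebra.ι_mul_ι_add_swap (Q := Q) ((Pi.single a (1 : F) : J n → F), (0 : P))
      ((Pi.single b (1 : F) : J n → F), (0 : P))
    rw [hpol, polar_Qh_single, if_neg hb, QuadraticMap.polar_zero_left, add_zero, map_zero] at this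
    exact eq_neg_of_add_eq_zero_left this
  · intro a
    show CliffordAlgebra.ι Q (Pi.single a 1, 0) * CliffordAlgebra.ι Q (Pi.single (ng a) 1, 0) +
      CliffordAlgebra.ι Q (Pi.single (ng a) 1, 0) * CliffordAlgebra.ι Q (Pi.single a 1, 0) = 1
    have := CliffordAlgebra.ι_mul_ι_add_swap (Q := Q) ((Pi.single a (1 : F) : J n → F), (0 : P))
      ((Pi.single (ng a) (1 : F) : J n → F), (0 : P))
    rw [hpol, polar_Qh_single, if_pos rfl, QuadraticMap.polar_zero_left, add_zero, map_one] at this
    exact this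
  · intro w
    show CliffordAlgebra.ι Q (0, w) * CliffordAlgebra.ι Q (0, w) = algebraMap F _ (Q0 w)
    rw [CliffordAlgebra.ι_sq_scalar, hQa, map_zero, zero_add]
  · intro a w
    show CliffordAlgebra.ι Q (0, w) * CliffordAlgebra.ι Q (Pi.single a 1, 0) =
      -(CliffordAlgebra.ι Q (Pi.single a 1, 0) * CliffordAlgebra.ι Q (0, w))
    have := CliffordAlgebra.ι_mul_ι_add_swap (Q := Q) ((0 : J n → F), w)
      ((Pi.single a (1 : F) : J n → F), (0 : P))
    rw [hpol, QuadraticMap.polar_zero_left, QuadraticMap.polar_zero_right, add_zero, map_zero]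
      at this
    exact eq_neg_of_add_eq_zero_left this

end Cfsg.Agent.S2099P
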