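import Mathlib
import Cfsg.Agent.Helper2.S2099.DefsA
import Cfsg.Agent.Helper2.S2099.DefsZ
import Cfsg.Agent.Helper18.S2099NORMSURJ
import Cfsg.Agent.Helper18.S2099NORM1
import Cfsg.Agent.Helper22.S2099LNGQ
import Cfsg.Agent.Helper22.S2099LBALQ
import Cfsg.Agent.Helper7.S2099CLYYQ
import Cfsg.Agent.Helper7.S2099LYFLIPQ
import Cfsg.Agent.Helper18.S2099CLH0X
import Cfsg.Agent.Helper18.S2099CLYXQ
import Cfsg.Agent.Helper18.S2099C2Q
import Cfsg.Agent.Lead.S2099YSMAP
import Cfsg.Agent.Lead.S2099YSEQUIV
import Cfsg.Agent.Helper29.S2099YSADD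
import Cfsg.Agent.Helper8.S2099ROTK
import Cfsg.Agent.Helper8.S2099YSYY
import Cfsg.Agent.Helper19.S2099FOURQ
import Cfsg.Agent.Helper29.S2099LYINDQ
import Cfsg.Agent.Helper1.S2099YSXY

set_option autoImplicit false
set_option linter.unusedSectionVars false
set_option linter.unusedVariables false

/-! S2099 chapter A (every central extension of a group with the relations `QRel` and a rotating
torus element splits; ALL `q`): STUBS (local only). -/

namespace Cfsg.Agent.S2099P

open Matrix Cfsg.Agent.S3352P Cfsg.Agent.S3351P Cfsg.Agent.S2096P Cfsg.Agent.S2086P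
open Cfsg.Agent.S2094P (LongOK isRoot_ng_right' isRoot_ng_left')
open scoped commutatorElement

section general

variable {n : ℕ} {F : Type*} [Field F] [Fintype F] {P : Type*} [AddCommGroup P] [Module F P]
  {G : Type*} [Group G] {E : Type*} [Group E] {Q0 : QuadraticForm F P}
  {X : J n → J n → F → G} {Ys : J n → P → G} {h₀ : G} {R D : P →ₗ[F] P}

/-! ### commuting lifts -/

/-! ### the long root elements -/

/-! ### the short root elements -/

end general

section field

variable {n : ℕ} {F : Type*} [Field F] [Fintype F] {a b : F} {G : Type*} [Group G]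
  {X : J n → J n → F → G} {Ys : J n → (Fin 2 → F) → G}

end field

end Cfsg.Agent.S2099P
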