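import Mathlib
import Cfsg.Agent.Helper2.S2099.DefsA
import Cfsg.Agent.Helper2.S2099.StubsA
import Cfsg.Agent.Helper2.S2096.MainA
import Cfsg.Agent.Helper21.S2094LYADD

set_option autoImplicit false
set_option linter.unusedSectionVars false
set_option linter.unusedVariables false

/-! S2099 chapter A, assembly: every central extension of the Steinberg group of twisted type
`²D_{n+1}` over a finite field splits (all `q`, `n ≥ 3`). -/

namespace Cfsg.Agent.S2099P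

open Matrix Cfsg.Agent.S3352P Cfsg.Agent.S3351P Cfsg.Agent.S2096P Cfsg.Agent.S2086P
open Cfsg.Agent.S2094P (LongOK isRoot_ng_right' isRoot_ng_left' Y_add_of_c2)
open scoped commutatorElement

universe u

namespace MAINAQ

section

variable {n : ℕ} {F : Type*} [Field F] [Fintype F] {P : Type*} [AddCommGroup P] [Module F P]
  {G : Type*} [Group G] {E : Type*} [Group E] {Q0 : QuadraticForm F P}
  {X : J n → J n → F → G} {Ys : J n → P → G} {h₀ : G} {R D : P →ₗ[F] P}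

/-- the facts on the long root elements -/
theorem longOK_Q (hn : 3 ≤ n) (hB : QRel Q0 X Ys) (hR : Rot Q0 X Ys h₀ R D)
    (hnd : ∃ w v : P, QuadraticMap.polar Q0 w v ≠ 0)
    (hsurj : ∀ μ : F, μ ≠ 0 → ∃ w : P, Q0 w = μ) (ψ : E →* G)
    (hψ : Function.Surjective ψ) (hc : ψ.ker ≤ Subgroup.center E) : LongOK X ψ hψ hn := by
  have hX := hB.dX
  have hC2 : ∀ a b c d, IsRoot a b → IsRoot c d → b ≠ c → a ≠ d → a ≠ ng c → a ≠ ng d →
      b ≠ ng c → b ≠ ng d → ∀ s t : F, CL ψ (X a b s) (X c d t) :=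
    fun a b c d hab hcd h1 h2 h3 h4 h5 h6 s t =>
      cl_X_X hn hB hnd ψ hψ hc hab hcd h1 h2 h3 h4 h5 h6 s t
  have hind := fun a b c (hab : IsRoot a b) (hbc : IsRoot b c) (hac : IsRoot a c) (s t : F) =>
    cl_eq_Y_Q hn hB hR hnd hsurj ψ hψ hc hab hbc hac s t
  refine ⟨hC2, ?_, hind⟩
  have hadd : ∀ a b, IsRoot a b → ∀ s t : F,
      Y X ψ hψ hn a b (s + t) = Y X ψ hψ hn a b s * Y X ψ hψ hn a b t :=
    fun a b hab s t => Y_add_of_c2 hn hX ψ hψ hc hC2 hab s t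
  have hflip : ∀ a b, IsRoot a b → ∀ t : F, Y X ψ hψ hn (ng b) (ng a) t = Y X ψ hψ hn a b (-t) :=
    fun a b hab t => Y_flip_of_ind hn hX ψ hψ hc hadd hind hab t
  have hmul : ∀ a b c, IsRoot a b → IsRoot b c → IsRoot a c → ∀ s t : F,
      cm (Y X ψ hψ hn a b s) (Y X ψ hψ hn b c t) = Y X ψ hψ hn a c (s * t) := by
    intro a b c hab hbc hac s t
    rw [MAINA.cm_eq_comm, cl_eq ψ hψ hc (map_Y hX ψ hψ hn hab s) (map_Y hX ψ hψ hn hbc t)]
    exact hind a b c hab hbc hac s t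
  have hcomm : ∀ a b c d, IsRoot a b → IsRoot c d → b ≠ c → a ≠ d → a ≠ ng c → a ≠ ng d →
      b ≠ ng c → b ≠ ng d → ∀ s t : F,
      Y X ψ hψ hn a b s * Y X ψ hψ hn c d t = Y X ψ hψ hn c d t * Y X ψ hψ hn a b s := by
    intro a b c d hab hcd h1 h2 h3 h4 h5 h6 s t
    exact hC2 a b c d hab hcd h1 h2 h3 h4 h5 h6 s t _ _ (map_Y hX ψ hψ hn hab s)
      (map_Y hX ψ hψ hn hcd t)
  have hcen : ∀ a b, IsRoot a b → ∀ s t : F,
      cm (Y X ψ hψ hn a b s) (Y X ψ hψ hn a (ng b) t) ∈ Subgroup.center E := by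
    intro a b hab s t
    have hab' : IsRoot a (ng b) := isRoot_ng_right' hab
    apply hc
    rw [MonoidHom.mem_ker, cm_def, map_mul, map_mul, map_mul, map_inv, map_inv,
      map_Y hX ψ hψ hn hab s, map_Y hX ψ hψ hn hab' t, hX.orth a b hab s t]
    group
  exact ⟨hflip, hadd, hmul, hcomm, orth_of_central hn hflip hadd hmul hcomm hcen⟩

/-- the canonical lifts satisfy the relations -/
theorem qRel_YS (hn : 3 ≤ n) (hB : QRel Q0 X Ys) (hR : Rot Q0 X Ys h₀ R D)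
    (hnd : ∃ w v : P, QuadraticMap.polar Q0 w v ≠ 0)
    (hsurj : ∀ μ : F, μ ≠ 0 → ∃ w : P, Q0 w = μ) (ψ : E →* G)
    (hψ : Function.Surjective ψ) (hc : ψ.ker ≤ Subgroup.center E) :
    QRel Q0 (Y X ψ hψ hn) (YS Ys ψ hψ h₀ D) := by
  have hL := longOK_Q hn hB hR hnd hsurj ψ hψ hc
  refine ⟨hL.rel, ?_, ?_, ?_, ?_⟩
  · intro a w v
    exact YS_add hn hB hR ψ hψ hc hL a w v
  · intro a b hab w v
    exact YS_yy hn hB hR ψ hψ hc hL hab w v
  · intro a b hab s w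
    exact YS_xy hn hB hR ψ hψ hc hL hab s w
  · intro a c d hcd h1 h2 w t
    exact cl_Ys_X hn hB hR ψ hψ hc hcd h1 h2 w t _ _ (map_YS hB hR ψ hψ a w)
      (map_Y hB.dX ψ hψ hn hcd t)

end

end MAINAQ

open MAINAQ

section StQ

variable {n : ℕ} {F : Type u} [Field F] [Fintype F] {P : Type u} [AddCommGroup P] [Module F P]
  {Q0 : QuadraticForm F P} {E : Type u} [Group E] {h₀ : StQ n Q0} {R D : P →ₗ[F] P}

/-- every central extension of `StQ n Q0` splits -/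
theorem exists_sectionQ (hn : 3 ≤ n) (hR : Rot Q0 (sxQ (n := n) Q0) (syQ (n := n) Q0) h₀ R D)
    (hnd : ∃ w v : P, QuadraticMap.polar Q0 w v ≠ 0)
    (hsurj : ∀ μ : F, μ ≠ 0 → ∃ w : P, Q0 w = μ) (ψ : E →* StQ n Q0)
    (hψ : Function.Surjective ψ) (hc : ψ.ker ≤ Subgroup.center E) :
    ∃ σ : StQ n Q0 →* E, ψ.comp σ = MonoidHom.id _ := by
  have hB := qRel_st (n := n) (Q0 := Q0)
  have hY := qRel_YS hn hB hR hnd hsurj ψ hψ hc
  obtain ⟨σ, hσX, hσY⟩ := exists_liftQ hY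
  refine ⟨σ, ?_⟩
  apply hom_extQ
  · intro a b hab t
    rw [MonoidHom.comp_apply, hσX a b hab t, map_Y hB.dX ψ hψ hn hab t, MonoidHom.id_apply]
  · intro a w
    rw [MonoidHom.comp_apply, hσY a w, map_YS hB hR ψ hψ a w, MonoidHom.id_apply]

/-- a stem extension of `StQ n Q0` is trivial -/
theorem ker_eq_botQ (hn : 3 ≤ n) (hR : Rot Q0 (sxQ (n := n) Q0) (syQ (n := n) Q0) h₀ R D)
    (hnd : ∃ w v : P, QuadraticMap.polar Q0 w v ≠ 0)
    (hsurj : ∀ μ : F, μ ≠ 0 → ∃ w : P, Q0 w = μ) (ρ : E →* StQ n Q0)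
    (hρ : Cfsg.IsStemExtension ρ) : ρ.ker = ⊥ := by
  obtain ⟨s, hs'⟩ := exists_sectionQ hn hR hnd hsurj ρ hρ.1 hρ.2.1
  have hs : ∀ g, ρ (s g) = g := fun g => by
    have := congrArg (fun φ => φ g) hs'
    simpa using this
  have hle : commutator E ≤ s.range := by
    rw [commutator_eq_closure, Subgroup.closure_le]
    rintro _ ⟨x, y, rfl⟩
    have hx : x * (s (ρ x))⁻¹ ∈ Subgroup.center E :=
      hρ.2.1 (by rw [MonoidHom.mem_ker, map_mul, map_inv, hs, mul_inv_cancel])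
    have hy : y * (s (ρ y))⁻¹ ∈ Subgroup.center E :=
      hρ.2.1 (by rw [MonoidHom.mem_ker, map_mul, map_inv, hs, mul_inv_cancel])
    have e1 : x = (x * (s (ρ x))⁻¹) * s (ρ x) := by group
    have e2 : y = (y * (s (ρ y))⁻¹) * s (ρ y) := by group
    have : ⁅x, y⁆ = ⁅s (ρ x), s (ρ y)⁆ := by
      conv_lhs => rw [e1, e2]
      rw [Cfsg.Agent.Helper2.Stb.comm_mul_central_left hx,
        Cfsg.Agent.Helper2.Stb.comm_mul_central_right hy]
    rw [SetLike.mem_coe, this, ← map_commutatorElement]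
    exact ⟨_, rfl⟩
  rw [Subgroup.eq_bot_iff_forall]
  intro x hx
  obtain ⟨g, rfl⟩ := hle (hρ.2.2 hx)
  have : ρ (s g) = 1 := hx
  rw [hs] at this
  rw [this, map_one]

end StQ

end Cfsg.Agent.S2099P
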