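import Mathlib
import Cfsg.Agent.Helper2.S2099.DefsC
import Cfsg.Agent.Helper9.S2099CLUNITQ
import Cfsg.Agent.Lead.S2099CLRELQ2
import Cfsg.Agent.Helper9.S2099CLRELQ1
import Cfsg.Agent.Helper9.S2099CLRELQ3
import Cfsg.Agent.Lead.S2099CLWQ
import Cfsg.Agent.Helper2.S2099.CLCARQ

set_option autoImplicit false
set_option linter.unusedSectionVars false
set_option linter.unusedVariables false

/-! S2099 chapter C (the spin representation of twisted type `²D_{n+1}`): STUBS (local only).
Port of S2094 chapter C. -/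

namespace Cfsg.Agent.S2099P

open Cfsg.Agent.S3352P Cfsg.Agent.S3351P Cfsg.Agent.S2096P

universe u

variable {n : ℕ} {F : Type*} [Field F] {P : Type*} [AddCommGroup P] [Module F P]
  {Q0 : QuadraticForm F P} {A : Type*} [Ring A] [Algebra F A] {ψ : J n → A} {ψW : P →ₗ[F] A}

end Cfsg.Agent.S2099P
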