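import Mathlib
import Cfsg.Agent.Helper2.S2099.DefsC
import Cfsg.Agent.Helper2.S2099.StubsC
import Cfsg.Agent.Helper2.S2096.MainC

set_option autoImplicit false
set_option linter.unusedSectionVars false
set_option linter.unusedVariables false

/-! S2099 chapter C, assembly: the spin representation of the Steinberg group of twisted type
`²D_{n+1}`; the element `tY (e_o) (-e₁)` is not trivial in odd characteristic. -/

namespace Cfsg.Agent.S2099P

open Cfsg.Agent.S3352P Cfsg.Agent.S3351P Cfsg.Agent.S2096P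
open Cfsg.Agent.S2094P (isRoot_ng_right' isRoot_ng_left')

universe u

namespace MAINCQ

section

variable {n : ℕ} {F : Type*} [Field F] {P : Type*} [AddCommGroup P] [Module F P]
  {Q0 : QuadraticForm F P} {A : Type*} [Ring A] [Algebra F A] {ψ : J n → A} {ψW : P →ₗ[F] A}

theorem ycQ_zero (a : J n) : ycQ ψ ψW a (0 : P) = 1 := by
  unfold ycQ
  rw [map_zero, mul_zero, add_zero]

/-- the units `Xc`, `YcQ` satisfy the Steinberg relations of twisted type `²D_{n+1}` -/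
theorem qRel_XcYcQ (hψ : CARQ Q0 ψ ψW) : QRel Q0 (Xc (F := F) ψ) (YcQ ψ ψW) := by
  have hX : DRel (Xc (F := F) ψ) := MAINC.dRel_Xc hψ.car
  have hXinv : ∀ a b, IsRoot a b → ∀ s : F, (Xc ψ a b s)⁻¹ = Xc ψ a b (-s) :=
    fun a b hab s => WCONJ.X_inv hX hab s
  have hadd : ∀ a, ∀ w v : P, YcQ ψ ψW a (w + v) = YcQ ψ ψW a w * YcQ ψ ψW a v := by
    intro a s t
    apply Units.ext
    rw [Units.val_mul, coe_YcQ hψ, coe_YcQ hψ, coe_YcQ hψ, ycQ_add hψ]
  have hzero : ∀ a, YcQ ψ ψW a (0 : P) = 1 := by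
    intro a
    apply Units.ext
    rw [coe_YcQ hψ, ycQ_zero, Units.val_one]
  have hinv : ∀ a, ∀ w : P, (YcQ ψ ψW a w)⁻¹ = YcQ ψ ψW a (-w) := by
    intro a s
    rw [inv_eq_iff_mul_eq_one, ← hadd a, add_neg_cancel, hzero a]
  refine ⟨hX, hadd, ?_, ?_, ?_⟩
  · intro a b hab s t
    have hab' : IsRoot a (ng b) := isRoot_ng_right' hab
    rw [cm_def, hinv a, hinv b]
    apply Units.ext
    rw [Units.val_mul, Units.val_mul, Units.val_mul, coe_YcQ hψ, coe_YcQ hψ, coe_YcQ hψ,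
      coe_YcQ hψ, coe_Xc hψ.car hab', ycQ_yy hψ hab]
  · intro a b hab s t
    have hab' : IsRoot a (ng b) := isRoot_ng_right' hab
    rw [cm_def, hXinv a b hab, hinv b]
    apply Units.ext
    rw [Units.val_mul, Units.val_mul, Units.val_mul, Units.val_mul, coe_Xc hψ.car hab,
      coe_YcQ hψ, coe_Xc hψ.car hab, coe_YcQ hψ, coe_YcQ hψ, coe_Xc hψ.car hab',
      xc_ycQ_xy hψ hab]
  · intro a c d hcd h1 h2 s t
    apply Units.ext
    rw [Units.val_mul, Units.val_mul, coe_YcQ hψ, coe_Xc hψ.car hcd, ycQ_comm_xc hψ hcd h1 h2]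

end

/-- the image of `tY` under a homomorphism -/
theorem map_tY {n : ℕ} {F : Type*} [Field F] {P : Type*} [AddCommGroup P] [Module F P]
    {Q0 : QuadraticForm F P} {M M' : Type*} [Group M] [Group M']
    {Ys : J n → P → M} {Ys' : J n → P → M'} (φ : M →* M')
    (h : ∀ a, ∀ w : P, φ (Ys a w) = Ys' a w) (e₁ : P) (a : J n) (w : P) :
    φ (tY Q0 Ys e₁ a w) = tY Q0 Ys' e₁ a w := by
  simp only [tY, wY, map_mul, map_inv, h]

end MAINCQ

/-- CLIFFQ (result of chapter C) -/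
theorem tY_syQ_ne_one {n : ℕ} {F : Type u} [Field F] (h2 : (2 : F) ≠ 0) {P : Type u}
    [AddCommGroup P] [Module F P] (Q0 : QuadraticForm F P) {e₁ : P} (he₁ : Q0 e₁ = 1)
    (a : J n) : tY Q0 (syQ (n := n) Q0) e₁ a (-e₁) ≠ 1 := by
  obtain ⟨A, _, _, ψ, ψW, hnt, hψ⟩ := exists_carQ n F h2 Q0
  obtain ⟨φ, -, hφ⟩ := exists_liftQ (MAINCQ.qRel_XcYcQ (F := F) hψ)
  intro h1
  have h3 := MAINCQ.map_tY (Q0 := Q0) φ hφ e₁ a (-e₁)
  rw [h1, map_one] at h3
  have h4 : (1 : A) = -1 := by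
    rw [← coe_tY_YcQ (F := F) hψ he₁ a, ← h3, Units.val_one]
  have h5 : (algebraMap F A) 2 = 0 := by
    rw [map_ofNat]
    have : (2 : A) = 1 + 1 := by norm_num
    rw [this]
    nth_rewrite 2 [h4]
    exact add_neg_cancel 1
  exact h2 ((map_eq_zero_iff _ (algebraMap F A).injective).1 h5)

end Cfsg.Agent.S2099P
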