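import Mathlib
import Cfsg.Agent.Helper2.S2099.DefsR
import Cfsg.Agent.Helper22.S2094RBCOMB
import Cfsg.Agent.Helper15.S2099GENQ
import Cfsg.Agent.Helper16.S2099CONJSLQ
import Cfsg.Agent.Helper16.S2099CONJSS1Q
import Cfsg.Agent.Helper23.S2099RANK1Q
import Cfsg.Agent.Helper23.S2099CONJSS2Q
import Cfsg.Agent.Helper23.S2099WYIDQ
import Cfsg.Agent.Helper15.S2099COMMQ
import Cfsg.Agent.Helper19.S2099CONJLSQ
import Cfsg.Agent.Helper24.S2099NSCONJQ
import Cfsg.Agent.Helper24.S2099TCONJQ
import Cfsg.Agent.Helper23.S2099WYINVQ

set_option autoImplicit false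
set_option linter.unusedSectionVars false
set_option linter.unusedVariables false

/-! S2099 chapter R (the root group datum of a group with the relations `QRel`): STUBS
(local only). The combinatorics of the names is S2094 RBCOMB (`Cfsg.Agent.Helper22.S2094RBCOMB`). -/

namespace Cfsg.Agent.S2099P

open Matrix Cfsg.Agent.S3352P Cfsg.Agent.S3351P Cfsg.Agent.S2096P Cfsg.Agent.RGD
open Cfsg.Agent.S2094P (RB RootB sc NgEquivariant mapB reflB MD XD XD_coe isRoot_ng_right'
  isRoot_ng_left' sw_ngEquivariant sc_ngEquivariant)

variable {n : ℕ} {F : Type*} [Field F] {P : Type*} [AddCommGroup P] [Module F P]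
  {M : Type*} [Group M] {Q0 : QuadraticForm F P} {X : J n → J n → F → M} {Ys : J n → P → M}

/-! ### CONJLSQ: a long Weyl element acting on the short root elements -/

/-! ### CONJSLQ: a short Weyl element acting on the long root elements -/

/-! ### CONJSS1Q, CONJSS2Q: a short Weyl element acting on the short root elements -/

/-! ### WYIDQ: rank one identities of the short roots -/

/-! ### NSCONJQ: the Weyl elements permute the root subgroups -/

/-! ### TCONJQ: the torus normalizes the root subgroups -/

/-! ### RANK1Q: the rank one relation -/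

/-! ### COMMQ: the commutator relations -/

/-! ### GENQ: the simple root subgroups and their opposites generate -/

end Cfsg.Agent.S2099P
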