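import Mathlib
import Cfsg.Agent.Helper2.S2099.DefsR
import Cfsg.Agent.Helper2.S2099.StubsR

set_option autoImplicit false
set_option linter.unusedSectionVars false
set_option linter.unusedVariables false

/-! S2099 chapter R, assembly: the root group datum of a group with the relations `QRel`
satisfies the axioms `IsRGD`. -/

namespace Cfsg.Agent.S2099P

open Matrix Cfsg.Agent.S3352P Cfsg.Agent.S3351P Cfsg.Agent.S2096P Cfsg.Agent.RGD
open Cfsg.Agent.S2094P (RB RootB sc NgEquivariant mapB reflB MD XD XD_coe isRoot_ng_right'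
  isRoot_ng_left' sw_ngEquivariant sc_ngEquivariant)

variable {n : ℕ} {F : Type*} [Field F] {P : Type*} [AddCommGroup P] [Module F P]
  {M : Type*} [Group M] {Q0 : QuadraticForm F P} {X : J n → J n → F → M} {Ys : J n → P → M}

namespace MAINR

theorem U_alt (hB : QRel Q0 X Ys) {r : RB n} (hr : r.Valid) : UQ X Ys r.alt = UQ X Ys r := by
  cases r with
  | lg a b =>
    have hab : IsRoot a b := hr
    apply le_antisymm
    · apply (Subgroup.closure_le _).mpr
      rintro _ ⟨t, rfl⟩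
      rw [hB.dX.flip a b hab t]
      exact Subgroup.subset_closure ⟨-t, rfl⟩
    · apply (Subgroup.closure_le _).mpr
      rintro _ ⟨t, rfl⟩
      have h := hB.dX.flip a b hab (-t)
      rw [neg_neg] at h
      rw [← h]
      exact Subgroup.subset_closure ⟨-t, rfl⟩
  | sh a => rfl

end MAINR

open MAINR

/-- the axioms of a root group datum -/
theorem isRGD_datumQ [Finite F] (hn : 3 ≤ n) (hQ : QuadraticMap.Anisotropic Q0)
    (hnd : ∃ w v : P, QuadraticMap.polar Q0 w v ≠ 0) (hB : QRel Q0 X Ys)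
    (hgen : Subgroup.closure ({g : M | ∃ a b, ∃ t : F, IsRoot a b ∧ g = X a b t} ∪
      {g | ∃ a, ∃ w : P, g = Ys a w}) = ⊤) : IsRGD (datumQ Q0 X Ys) where
  neg_neg r := Subtype.ext (RB.neg_neg' r.1)
  alt_alt r := Subtype.ext (RB.alt_alt' r.1)
  neg_alt r := Subtype.ext (RB.neg_alt' r.1)
  U_alt r := U_alt hB r.2
  pos_neg r := RB.pos_neg' r.2
  pos_alt r := RB.pos_alt' r.2
  simple_pos s hs := RB.simple_pos' hs
  refl_self s hs := Subtype.ext (RB.map_perm_self hs)
  refl_refl s _ r := Subtype.ext (RB.map_map_perm s.1 r.1)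
  refl_neg s _ r := Subtype.ext (RB.map_neg s.1.perm_ngEquivariant r.1)
  refl_alt s _ r := Subtype.ext (RB.map_alt s.1.perm_ngEquivariant r.1)
  refl_pos s hs r hr h1 h2 :=
    RB.pos_map_perm hs r.2 hr (fun h => h1 (Subtype.ext h)) (fun h => h2 (Subtype.ext h))
  T_conj t ht r x hx := by
    obtain ⟨r, hr⟩ := r
    cases r with
    | lg a b =>
      obtain ⟨u, rfl⟩ := (mem_U_lg hB hr).1 hx
      obtain ⟨u', hu'⟩ := HhQ_conj_X hn hQ hB ht hr u
      rw [hu']
      exact (mem_U_lg hB hr).2 ⟨u', rfl⟩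
    | sh a =>
      obtain ⟨u, rfl⟩ := (mem_U_sh hB a).1 hx
      obtain ⟨u', hu'⟩ := HhQ_conj_Ys hn hQ hB ht a u
      rw [hu']
      exact (mem_U_sh hB a).2 ⟨u', rfl⟩
  nS_conj s hs m hm r x hx := by
    obtain ⟨s, hsv⟩ := s
    cases s with
    | lg a b =>
      obtain ⟨t, ht, rfl⟩ := hm
      exact wX_conj_mem_U hn hB hsv ht r.2 hx
    | sh a =>
      obtain ⟨w, hw, rfl⟩ := hm
      exact wY_conj_mem_U hn hB a (fun h => hw (hQ w h)) r.2 hx
  nS_inv s hs m hm := by
    obtain ⟨s, hsv⟩ := s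
    cases s with
    | lg a b =>
      obtain ⟨t, ht, rfl⟩ := hm
      refine ⟨-t, neg_ne_zero.2 ht, ?_⟩
      have hinv : ∀ u : F, (X a b u)⁻¹ = X a b (-u) := fun u => WCONJ.X_inv hB.dX hsv u
      have hinv' : ∀ u : F, (X b a u)⁻¹ = X b a (-u) := fun u => WCONJ.X_inv hB.dX hsv.symm u
      unfold wX
      rw [_root_.mul_inv_rev, _root_.mul_inv_rev, hinv, hinv', neg_neg, inv_neg, neg_neg, mul_assoc]
    | sh a =>
      obtain ⟨w, hw, rfl⟩ := hm
      exact ⟨-w, neg_ne_zero.2 hw, wY_inv' hB a w⟩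
  rank_one s hs x hx hx1 := by
    obtain ⟨s, hsv⟩ := s
    cases s with
    | lg a b => exact rank_one_lg hB hsv hx hx1
    | sh a => exact rank_one_sh hQ hB a hx hx1
  comm s hs z hz r hr h1 h2 x hx := comm_mem_UhE hn hB hs hz hr h1 h2 hx
  gen := closure_simple_eq_top hn hnd hB hgen

end Cfsg.Agent.S2099P
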