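import Mathlib
import Cfsg.Agent.Helper2.S2099.DefsR
import Cfsg.Agent.Helper9.S2094BLOCKD
import Cfsg.Agent.Helper4.S2099MONOQ
import Cfsg.Agent.Helper20.S2099BLOCKQ
import Cfsg.Agent.Helper20.S2099INJDQ
import Cfsg.Agent.Helper26.S2099UNITRIQ
import Cfsg.Agent.Helper26.S2099UDECQ
import Cfsg.Agent.Helper18.S2099INJPOSQ
import Cfsg.Agent.Helper18.S2099ROOTPQ

set_option autoImplicit false
set_option linter.unusedSectionVars false
set_option linter.unusedVariables false

/-! S2099 chapter K (the elements with a scalar matrix in a group with the relations `QRel` and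
the natural representation are central): STUBS (local only). The subgroup `MD X` generated by the
long root elements is handled by S2094 BLOCKD (`Cfsg.Agent.Helper9.S2094BLOCKD`). -/

namespace Cfsg.Agent.S2099P

open Matrix Cfsg.Agent.S3352P Cfsg.Agent.S3351P Cfsg.Agent.S2096P Cfsg.Agent.RGD
open Cfsg.Agent.S2094P (RB RootB sc NgEquivariant mapB reflB MD XD XD_coe isRoot_ng_right'
  isRoot_ng_left' sw_ngEquivariant sc_ngEquivariant)

variable {n : ℕ} {F : Type*} [Field F] {κ : Type} [Fintype κ] [DecidableEq κ]
  {M : Type*} [Group M] {Q0 : QuadraticForm F (κ → F)} {X : J n → J n → F → M}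
  {Ys : J n → (κ → F) → M}

end Cfsg.Agent.S2099P
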