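import Mathlib
import Cfsg.Agent.Helper2.S2099.DefsR
import Cfsg.Agent.Helper2.S2099.MainR
import Cfsg.Agent.Helper2.S2099.StubsK
import Cfsg.Agent.Helper2.RGD.Main
import Cfsg.Agent.Helper2.S3352.Ker

set_option autoImplicit false
set_option linter.unusedSectionVars false
set_option linter.unusedVariables false

/-! S2099 chapter K, assembly: an element with a scalar matrix in a group with the relations
`QRel` and the natural representation is central, and is a product `k m k'` with `k, k'` in the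
torus and `m ∈ N̂` normalizing every root subgroup. -/

namespace Cfsg.Agent.S2099P

open Matrix Cfsg.Agent.S3352P Cfsg.Agent.S3351P Cfsg.Agent.S2096P Cfsg.Agent.RGD
open Cfsg.Agent.S2094P (RB RootB sc NgEquivariant mapB reflB MD XD XD_coe isRoot_ng_right'
  isRoot_ng_left' sw_ngEquivariant sc_ngEquivariant)

variable {n : ℕ} {F : Type*} [Field F] {κ : Type} [Fintype κ] [DecidableEq κ]
  {M : Type*} [Group M] {Q0 : QuadraticForm F (κ → F)} {X : J n → J n → F → M}
  {Ys : J n → (κ → F) → M}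

namespace MAINK

theorem rkQ_lt_of_rk_lt {a b : J n} (h : rk a < rk b) :
    rkQ (Sum.inl a : IQ n κ) < rkQ (Sum.inl b : IQ n κ) := by
  rcases a with i | i <;> rcases b with j | j <;> simp only [rk, rkQ] at h ⊢ <;> omega

theorem diagPQ_mul {g h : M} (hg : DiagPQ X Ys g) (hh : DiagPQ X Ys h) :
    DiagPQ X Ys (g * h) := by
  refine ⟨fun a b hab t => ?_, fun a t => ?_⟩
  · obtain ⟨t', ht'⟩ := hh.1 a b hab t
    obtain ⟨t'', ht''⟩ := hg.1 a b hab t'
    refine ⟨t'', ?_⟩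
    rw [← ht'', ← ht']
    group
  · obtain ⟨t', ht'⟩ := hh.2 a t
    obtain ⟨t'', ht''⟩ := hg.2 a t'
    refine ⟨t'', ?_⟩
    rw [← ht'', ← ht']
    group

/-- conjugation by an element normalizing the root subgroups stabilizes `Û` -/
theorem diagPQ_conj_mem_Uh (hB : QRel Q0 X Ys) {g : M} (hg : DiagPQ X Ys g) {y : M}
    (hy : y ∈ (datumQ Q0 X Ys).Uh) : g * y * g⁻¹ ∈ (datumQ Q0 X Ys).Uh := by
  induction hy using Subgroup.closure_induction with
  | mem x hx =>
    obtain ⟨⟨r, hrv⟩, hr, hxr⟩ := hx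
    cases r with
    | lg a b =>
      obtain ⟨t, rfl⟩ := (mem_U_lg hB hrv).1 hxr
      obtain ⟨t', ht'⟩ := hg.1 a b hrv t
      rw [ht']
      exact Subgroup.subset_closure ⟨⟨RB.lg a b, hrv⟩, hr, (mem_U_lg hB hrv).2 ⟨t', rfl⟩⟩
    | sh a =>
      obtain ⟨t, rfl⟩ := (mem_U_sh hB a).1 hxr
      obtain ⟨t', ht'⟩ := hg.2 a t
      rw [ht']
      exact Subgroup.subset_closure ⟨⟨RB.sh a, hrv⟩, hr, (mem_U_sh hB a).2 ⟨t', rfl⟩⟩
  | one => rw [mul_one, mul_inv_cancel]; exact Subgroup.one_mem _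
  | mul x y _ _ hx hy =>
    have e : g * (x * y) * g⁻¹ = (g * x * g⁻¹) * (g * y * g⁻¹) := by group
    rw [e]
    exact Subgroup.mul_mem _ hx hy
  | inv x _ hx =>
    have e : g * x⁻¹ * g⁻¹ = (g * x * g⁻¹)⁻¹ := by group
    rw [e]
    exact Subgroup.inv_mem _ hx

theorem xmQ_apply {a b : J n} (hab : IsRoot a b) (s : F) :
    xmQ (κ := κ) a b s (Sum.inl a) (Sum.inl b) = s := by
  unfold xmQ blkQ xm
  rw [Matrix.fromBlocks_apply₁₁, Matrix.add_apply, Matrix.one_apply_ne hab.1, Matrix.smul_apply,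
    Matrix.sub_apply, Matrix.single_apply_same, Matrix.single_apply_of_ne]
  · simp
  · intro h
    exact hab.2 h.1.symm

theorem ymQ_apply (a : J n) (w : κ → F) (k : κ) :
    ymQ Q0 a w (Sum.inr k) (Sum.inl (ng a)) = -w k := by
  unfold ymQ
  rw [Matrix.fromBlocks_apply₂₁, Matrix.neg_apply, Matrix.vecMulVec_apply, Pi.single_eq_same,
    mul_one]

end MAINK

open MAINK

section main

variable (π : M →* Matrix (IQ n κ) (IQ n κ) F)
  (hπX : ∀ a b, IsRoot a b → ∀ t : F, π (X a b t) = xmQ a b t)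
  (hπY : ∀ a, ∀ w : κ → F, π (Ys a w) = ymQ Q0 a w)

include hπX hπY in
/-- an element with a scalar matrix is a product `k m k'` with `k, k'` in the torus and `m ∈ N̂`
normalizing every root subgroup -/
theorem scalar_decomp [Finite F] [Nonempty κ] (hn : 3 ≤ n) (hQ : QuadraticMap.Anisotropic Q0)
    (hnd : ∃ w v : κ → F, QuadraticMap.polar Q0 w v ≠ 0) (hB : QRel Q0 X Ys)
    (hgen : Subgroup.closure ({g : M | ∃ a b, ∃ t : F, IsRoot a b ∧ g = X a b t} ∪
      {g | ∃ a, ∃ w : κ → F, g = Ys a w}) = ⊤) {x : M} {c : F} (hc : c ≠ 0)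
    (hx : π x = c • (1 : Matrix (IQ n κ) (IQ n κ) F)) :
    ∃ k ∈ HhQ Q0 X Ys, ∃ m ∈ (datumQ Q0 X Ys).Nh, ∃ k' ∈ HhQ Q0 X Ys,
      DiagPQ X Ys m ∧ DiagPQ X Ys (k * m * k') ∧ x = k * m * k' := by
  have hD := isRGD_datumQ hn hQ hnd hB hgen
  obtain ⟨u, hu, k, hk, m, hm, u', hu', k', hk', rfl⟩ := exists_decomp hD x
  -- images
  have hUT : ∀ {y : M}, y ∈ (datumQ Q0 X Ys).Uh →
      (∀ i j, rkQ j < rkQ i → π y i j = 0) ∧ (∀ i, π y i i = 1) ∧
        ∀ k k' : κ, k ≠ k' → π y (Sum.inr k) (Sum.inr k') = 0 :=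
    fun hy => unitri_of_mem_UhQ π hπX hπY hy
  have hDg : ∀ {y : M}, DiagPQ X Ys y →
      (∀ (a : J n) (i : IQ n κ), i ≠ Sum.inl a → π y i (Sum.inl a) = 0) ∧
        ∀ (k : κ) (b : J n), π y (Sum.inl b) (Sum.inr k) = 0 := by
    intro y hy
    exact mono_of_rootPQ π hπX hπY hn hQ (g := y) (σ := 1) (fun a => rfl) hy.1 hy.2
  have hTD : ∀ {y : M}, y ∈ HhQ Q0 X Ys → DiagPQ X Ys y := fun hy =>
    ⟨fun a b hab t => HhQ_conj_X hn hQ hB hy hab t, fun a t => HhQ_conj_Ys hn hQ hB hy a t⟩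
  have hkD : DiagPQ X Ys k := hTD hk
  have hk'D : DiagPQ X Ys k' := hTD hk'
  have hkiD : DiagPQ X Ys k⁻¹ := hTD (Subgroup.inv_mem _ hk)
  have hk'iD : DiagPQ X Ys k'⁻¹ := hTD (Subgroup.inv_mem _ hk')
  have hBU : ∀ {y : M}, y ∈ (datumQ Q0 X Ys).Uh → Matrix.BlockTriangular (π y) rkQ := by
    intro y hy i j hij
    exact (hUT hy).1 i j hij
  have hBD : ∀ {y : M}, DiagPQ X Ys y → Matrix.BlockTriangular (π y) rkQ := by
    intro y hy i j hij
    rcases j with b | k
    · exact (hDg hy).1 b i (fun h => by rw [h] at hij; exact lt_irrefl _ hij)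
    · rcases i with b | k'
      · exact (hDg hy).2 k b
      · simp only [rkQ] at hij
        exact absurd hij (lt_irrefl _)
  have hBc : Matrix.BlockTriangular (c • (1 : Matrix (IQ n κ) (IQ n κ) F)) rkQ := by
    intro i j hij
    rw [Matrix.smul_apply, Matrix.one_apply_ne (fun h => by rw [h] at hij; exact lt_irrefl _ hij),
      smul_zero]
  -- `π m` is upper triangular
  obtain ⟨σ, hσ, hmX, hmY⟩ := rootPQ_of_mem_Nh hn hQ hB hm
  have hmono := mono_of_rootPQ π hπX hπY hn hQ hσ hmX hmY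
  have hmeq : m = k⁻¹ * u⁻¹ * (u * k * m * (u' * k')) * k'⁻¹ * u'⁻¹ := by group
  have hπm : π m = π k⁻¹ * π u⁻¹ * (c • (1 : Matrix (IQ n κ) (IQ n κ) F)) * π k'⁻¹ * π u'⁻¹ := by
    conv_lhs => rw [hmeq]
    simp only [map_mul, hx]
  have hBm : Matrix.BlockTriangular (π m) rkQ := by
    rw [hπm]
    exact ((((hBD hkiD).mul (hBU (Subgroup.inv_mem _ hu))).mul hBc).mul (hBD hk'iD)).mul
      (hBU (Subgroup.inv_mem _ hu'))
  -- the entries along `σ` do not vanish
  have hnz : ∀ a : J n, π m (Sum.inl (σ a)) (Sum.inl a) ≠ 0 := by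
    intro a h0
    have h1 : (π m⁻¹ * π m) (Sum.inl a) (Sum.inl a) = 1 := by
      rw [← map_mul, inv_mul_cancel, map_one, Matrix.one_apply_eq]
    rw [Matrix.mul_apply] at h1
    have h2 : ∀ i, π m⁻¹ (Sum.inl a) i * π m i (Sum.inl a) = 0 := by
      intro i
      by_cases hi : i = Sum.inl (σ a)
      · rw [hi, h0, mul_zero]
      · rw [hmono.1 a i hi, mul_zero]
    simp only [h2, Finset.sum_const_zero] at h1
    exact zero_ne_one h1
  have hσ1 : ∀ a, σ a = a := by
    apply KER.perm_eq_one_of_rk_le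
    intro a
    by_contra hlt
    exact hnz a (hBm (rkQ_lt_of_rk_lt (not_le.1 hlt)))
  have hmD : DiagPQ X Ys m := by
    refine ⟨fun a b hab t => ?_, fun a t => ?_⟩
    · have := hmX a b hab t
      rw [hσ1 a, hσ1 b] at this
      exact this
    · have := hmY a t
      rw [hσ1 a] at this
      exact this
  -- reduce to a diagonal element
  have hd : DiagPQ X Ys (k * m) := diagPQ_mul hkD hmD
  have hd' : DiagPQ X Ys (k * m * k') := diagPQ_mul hd hk'D
  set u'' : M := u * (k * m * u' * (k * m)⁻¹) with hu''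
  have hu''U : u'' ∈ (datumQ Q0 X Ys).Uh := Subgroup.mul_mem _ hu (diagPQ_conj_mem_Uh hB hd hu')
  have hxeq : u * k * m * (u' * k') = u'' * (k * m * k') := by
    rw [hu'']; group
  rw [hxeq] at hx ⊢
  rw [map_mul] at hx
  have hD1 := (hDg hd').1
  have hD2 := (hDg hd').2
  set D : Matrix (IQ n κ) (IQ n κ) F := π (k * m * k') with hDdef
  -- the columns `inl a`
  have hcolJ : ∀ (a : J n) (i : IQ n κ), π u'' i (Sum.inl a) * D (Sum.inl a) (Sum.inl a) =
      (c • (1 : Matrix (IQ n κ) (IQ n κ) F)) i (Sum.inl a) := by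
    intro a i
    rw [← hx, Matrix.mul_apply, Finset.sum_eq_single (Sum.inl a)]
    · intro j _ hj
      rw [hD1 a j hj, mul_zero]
    · intro h; exact absurd (Finset.mem_univ _) h
  have hDaa : ∀ a : J n, D (Sum.inl a) (Sum.inl a) = c := by
    intro a
    have h := hcolJ a (Sum.inl a)
    rw [(hUT hu''U).2.1, one_mul, Matrix.smul_apply, Matrix.one_apply_eq, smul_eq_mul, mul_one] at h
    exact h
  have huJ : ∀ (a : J n) (i : IQ n κ), i ≠ Sum.inl a → π u'' i (Sum.inl a) = 0 := by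
    intro a i hi
    have h := hcolJ a i
    rw [hDaa a, Matrix.smul_apply, Matrix.one_apply_ne hi, smul_zero] at h
    exact (mul_eq_zero.1 h).resolve_right hc
  -- the columns `inr k`
  have hcolK : ∀ (k₀ : κ) (i : IQ n κ),
      ∑ k' : κ, π u'' i (Sum.inr k') * D (Sum.inr k') (Sum.inr k₀) =
        (c • (1 : Matrix (IQ n κ) (IQ n κ) F)) i (Sum.inr k₀) := by
    intro k₀ i
    rw [← hx, Matrix.mul_apply, Fintype.sum_sum_type]
    have : ∑ b : J n, π u'' i (Sum.inl b) * D (Sum.inl b) (Sum.inr k₀) = 0 := by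
      apply Finset.sum_eq_zero
      intro b _
      rw [hD2 k₀ b, mul_zero]
    rw [this, zero_add]
  have hDkk : ∀ k₀ k₁ : κ, D (Sum.inr k₁) (Sum.inr k₀) =
      (c • (1 : Matrix (IQ n κ) (IQ n κ) F)) (Sum.inr k₁) (Sum.inr k₀) := by
    intro k₀ k₁
    have h := hcolK k₀ (Sum.inr k₁)
    rw [Finset.sum_eq_single k₁] at h
    · rw [(hUT hu''U).2.1, one_mul] at h
      exact h
    · intro k' _ hk'
      rw [(hUT hu''U).2.2 k₁ k' (Ne.symm hk'), zero_mul]
    · intro h'; exact absurd (Finset.mem_univ _) h'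
  have huK : ∀ (k₀ : κ) (a : J n), π u'' (Sum.inl a) (Sum.inr k₀) = 0 := by
    intro k₀ a
    have h := hcolK k₀ (Sum.inl a)
    rw [Finset.sum_eq_single k₀] at h
    · rw [hDkk k₀ k₀, Matrix.smul_apply, Matrix.one_apply_eq, Matrix.smul_apply,
        Matrix.one_apply_ne (by simp), smul_zero, smul_eq_mul, mul_one] at h
      exact (mul_eq_zero.1 h).resolve_right hc
    · intro k' _ hk'
      rw [hDkk k₀ k', Matrix.smul_apply, Matrix.one_apply_ne (by simpa using hk'), smul_zero,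
        mul_zero]
    · intro h'; exact absurd (Finset.mem_univ _) h'
  have hπu : π u'' = 1 := by
    ext i j
    by_cases hij : i = j
    · rw [hij, (hUT hu''U).2.1 j, Matrix.one_apply_eq]
    · rw [Matrix.one_apply_ne hij]
      rcases j with b | k₀
      · exact huJ b i hij
      · rcases i with a | k₁
        · exact huK k₀ a
        · exact (hUT hu''U).2.2 k₁ k₀ (fun h => hij (by rw [h]))
  have hu1 : u'' = 1 := eq_one_of_mem_UhQ π hπX hπY hn hB hu''U hπu
  rw [hu1, one_mul]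
  exact ⟨k, hk, m, hm, k', hk', hmD, hd', rfl⟩

include hπX hπY in
/-- the elements with a scalar matrix are central -/
theorem scalar_mem_center [Finite F] [Nonempty κ] (hn : 3 ≤ n) (hQ : QuadraticMap.Anisotropic Q0)
    (hnd : ∃ w v : κ → F, QuadraticMap.polar Q0 w v ≠ 0) (hB : QRel Q0 X Ys)
    (hgen : Subgroup.closure ({g : M | ∃ a b, ∃ t : F, IsRoot a b ∧ g = X a b t} ∪
      {g | ∃ a, ∃ w : κ → F, g = Ys a w}) = ⊤) {x : M} {c : F} (hc : c ≠ 0)
    (hx : π x = c • (1 : Matrix (IQ n κ) (IQ n κ) F)) : x ∈ Subgroup.center M := by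
  obtain ⟨k, hk, m, hm, k', hk', hmD, hd', rfl⟩ :=
    scalar_decomp π hπX hπY hn hQ hnd hB hgen hc hx
  set d : M := k * m * k' with hdd
  have hdi : π d⁻¹ = c⁻¹ • (1 : Matrix (IQ n κ) (IQ n κ) F) := by
    have h := map_mul π d d⁻¹
    rw [mul_inv_cancel, map_one, hx, Matrix.smul_mul, one_mul] at h
    have h' : c • π d⁻¹ = 1 := h.symm
    calc π d⁻¹ = c⁻¹ • (c • π d⁻¹) := by rw [smul_smul, inv_mul_cancel₀ hc, one_smul]
      _ = c⁻¹ • (1 : Matrix (IQ n κ) (IQ n κ) F) := by rw [h']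
  have hconj : ∀ A : Matrix (IQ n κ) (IQ n κ) F, π d * A * π d⁻¹ = A := by
    intro A
    rw [hx, hdi, Matrix.smul_mul, one_mul, Matrix.mul_smul, mul_one, smul_smul,
      inv_mul_cancel₀ hc, one_smul]
  have hcommX : ∀ a b, IsRoot a b → ∀ t : F, d * X a b t = X a b t * d := by
    intro a b hab t
    obtain ⟨t', h1⟩ := hd'.1 a b hab t
    have h2 := congrArg π h1
    rw [map_mul, map_mul, hconj, hπX a b hab, hπX a b hab] at h2
    have h3 := congrFun (congrFun h2 (Sum.inl a)) (Sum.inl b)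
    rw [xmQ_apply hab, xmQ_apply hab] at h3
    rw [← h3] at h1
    calc d * X a b t = d * X a b t * d⁻¹ * d := by group
      _ = X a b t * d := by rw [h1]
  have hcommY : ∀ a, ∀ w : κ → F, d * Ys a w = Ys a w * d := by
    intro a w
    obtain ⟨w', h1⟩ := hd'.2 a w
    have h2 := congrArg π h1
    rw [map_mul, map_mul, hconj, hπY a, hπY a] at h2
    have h3 : w = w' := by
      funext k₀
      have h4 := congrFun (congrFun h2 (Sum.inr k₀)) (Sum.inl (ng a))
      rw [ymQ_apply, ymQ_apply, neg_inj] at h4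
      exact h4
    rw [← h3] at h1
    calc d * Ys a w = d * Ys a w * d⁻¹ * d := by group
      _ = Ys a w * d := by rw [h1]
  rw [Subgroup.mem_center_iff]
  intro g
  have hg : g ∈ Subgroup.closure ({g : M | ∃ a b, ∃ t : F, IsRoot a b ∧ g = X a b t} ∪
      {g | ∃ a, ∃ w : κ → F, g = Ys a w}) := by
    rw [hgen]; exact Subgroup.mem_top _
  induction hg using Subgroup.closure_induction with
  | mem y hy =>
    rcases hy with ⟨a, b, t, hab, rfl⟩ | ⟨a, w, rfl⟩
    · exact (hcommX a b hab t).symm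
    · exact (hcommY a w).symm
  | one => simp
  | mul y y' _ _ hy hy' =>
    rw [mul_assoc, hy', ← mul_assoc, hy, mul_assoc]
  | inv y _ hy =>
    calc y⁻¹ * d = y⁻¹ * (d * y) * y⁻¹ := by group
      _ = y⁻¹ * (y * d) * y⁻¹ := by rw [hy]
      _ = d * y⁻¹ := by group

end main

end Cfsg.Agent.S2099P
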