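import Mathlib
import Cfsg.Agent.Helper2.S2099.DefsR
import Cfsg.Agent.Helper2.S2099.DefsN
import Cfsg.Agent.Helper22.S2099NGENQ
import Cfsg.Agent.Lead.S2099CRELQ
import Cfsg.Agent.Helper7.S2099CSFORMQ
import Cfsg.Agent.Helper23.S2099WCONJWQ
import Cfsg.Agent.Helper18.S2099HNORMQ
import Cfsg.Agent.Helper23.S2099PITQ
import Cfsg.Agent.Helper18.S2099NACONJQ
import Cfsg.Agent.Helper19.S2099TORUSQ
import Cfsg.Agent.Helper23.S2099PIHALFQ
import Cfsg.Agent.Helper22.S2099DTRANSQ

set_option autoImplicit false
set_option linter.unusedSectionVars false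
set_option linter.unusedVariables false

/-! S2099 chapter N (an element of `N̂` with a block diagonal matrix lies in the torus) and the
explicit matrices of the Weyl and torus elements: STUBS (local only). Port of S2094 chapter N. -/

namespace Cfsg.Agent.S2099P

open Matrix Cfsg.Agent.S3352P Cfsg.Agent.S3351P Cfsg.Agent.S2096P Cfsg.Agent.S2086P Cfsg.Agent.RGD
open Cfsg.Agent.S2094P (RB RootB sc NgEquivariant mapB reflB MD XD XD_coe isRoot_ng_right'
  isRoot_ng_left' sw_ngEquivariant sc_ngEquivariant)

section formal

variable {n : ℕ} {F : Type*} [Field F] {P : Type*} [AddCommGroup P] [Module F P]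
  {M : Type*} [Group M] {Q0 : QuadraticForm F P} {X : J n → J n → F → M} {Ys : J n → P → M}

/-! ### WCONJWQ: Weyl elements conjugated by Weyl elements (formal, from CONJLSQ/CONJSLQ/CONJSSQ) -/

/-! ### TORUSQ: the action of the short torus elements on the root elements (formal) -/

/-! ### CRELQ: the relations between the sign changes modulo the torus -/

end formal

section pi

variable {n : ℕ} {F : Type*} [Field F] {κ : Type} [Fintype κ] [DecidableEq κ]
  {M : Type*} [Group M] {Q0 : QuadraticForm F (κ → F)} {X : J n → J n → F → M}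
  {Ys : J n → (κ → F) → M}

/-! ### PITQ: the matrices of the Weyl and torus elements -/

/-! ### DTRANSQ: facts of type `D_n` (S2096) transported through the subgroup `MD X` -/

/-! ### HNORMQ: the Weyl elements normalize the torus -/

/-! ### NACONJQ, NGENQ, CSFORMQ: the structure of `N̂` -/

end pi

end Cfsg.Agent.S2099P
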