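import Mathlib
import Cfsg.Agent.Helper2.S2099.DefsR
import Cfsg.Agent.Helper2.S2099.DefsN
import Cfsg.Agent.Helper2.S2099.StubsR
import Cfsg.Agent.Helper2.S2099.StubsK
import Cfsg.Agent.Helper2.S2099.StubsN
import Cfsg.Agent.Helper10.S2096NAH
import Cfsg.Agent.Helper16.S2096DGH
import Cfsg.Agent.Helper20.S2096HALFSL

set_option autoImplicit false
set_option linter.unusedSectionVars false
set_option linter.unusedVariables false

/-! S2099 chapter N, assembly: an element of `N̂` whose matrix has the columns of the hyperbolic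
part diagonal lies in the torus. -/

namespace Cfsg.Agent.S2099P

open Matrix Cfsg.Agent.S3352P Cfsg.Agent.S3351P Cfsg.Agent.S2096P Cfsg.Agent.S2086P Cfsg.Agent.RGD
open Cfsg.Agent.S2094P (RB RootB sc NgEquivariant mapB reflB MD XD XD_coe isRoot_ng_right'
  isRoot_ng_left' sw_ngEquivariant sc_ngEquivariant)

variable {n : ℕ} {F : Type*} [Field F] [Fintype F] {κ : Type} [Fintype κ] [DecidableEq κ]
  {M : Type*} [Group M] {Q0 : QuadraticForm F (κ → F)} {X : J n → J n → F → M}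
  {Ys : J n → (κ → F) → M}

namespace MAINN

theorem Hh_le_HhQ : Hh X ≤ HhQ Q0 X Ys := by
  apply Subgroup.closure_mono
  intro g hg
  exact Or.inl hg

/-- a matrix with a left inverse whose column `a` is supported at `a` has `A a a ≠ 0` -/
theorem col_ne_zero {ι : Type*} [Fintype ι] [DecidableEq ι] {A B : Matrix ι ι F} (hBA : B * A = 1)
    {a : ι} (hA : ∀ i, i ≠ a → A i a = 0) : A a a ≠ 0 := by
  intro h0
  have h1 : (B * A) a a = 1 := by rw [hBA, Matrix.one_apply_eq]
  rw [Matrix.mul_apply] at h1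
  have h2 : ∀ i, B a i * A i a = 0 := by
    intro i
    by_cases hi : i = a
    · rw [hi, h0, mul_zero]
    · rw [hA i hi, mul_zero]
  simp only [h2, Finset.sum_const_zero] at h1
  exact zero_ne_one h1

section

variable (π : M →* Matrix (IQ n κ) (IQ n κ) F)
  (hπX : ∀ a b, IsRoot a b → ∀ t : F, π (X a b t) = xmQ a b t)
  (hπY : ∀ a, ∀ w : κ → F, π (Ys a w) = ymQ Q0 a w)

include hπX hπY in
/-- the columns of the hyperbolic part of the matrix of an element of the torus -/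
theorem col_of_mem_HhQ [Nonempty κ] (hn : 3 ≤ n) (hQ : QuadraticMap.Anisotropic Q0)
    (hB : QRel Q0 X Ys) {h : M} (hh : h ∈ HhQ Q0 X Ys) (a : J n) (i : IQ n κ)
    (hi : i ≠ Sum.inl a) : π h i (Sum.inl a) = 0 :=
  (mono_of_rootPQ π hπX hπY hn hQ (g := h) (σ := 1) (fun a => rfl)
    (fun a b hab t => HhQ_conj_X hn hQ hB hh hab t)
    (fun a t => HhQ_conj_Ys hn hQ hB hh a t)).1 a i hi

variable {e₁ : κ → F} (he₁ : Q0 e₁ = 1)

include hπY he₁ in
theorem pi_cQ_fix {k j : Fin n} (hjk : j ≠ k) :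
    (π (cQ Q0 Ys e₁ k)).mulVec (Pi.single (Sum.inl (Sum.inl j)) 1) =
      Pi.single (Sum.inl (Sum.inl j)) 1 := by
  unfold cQ
  rw [pi_wY_mulVec_inl π hπY (Sum.inl k) (by rw [he₁]; exact one_ne_zero)]
  have h2 : (Sum.inl j : J n) ≠ Sum.inl k := by
    intro h; exact hjk (Sum.inl.inj h)
  have h3 : (Sum.inl j : J n) ≠ ng (Sum.inl k) := by
    intro h; simp at h
  rw [if_neg h2, if_neg h3]

include hπY he₁ in
theorem pi_cQ_flip (j : Fin n) :
    (π (cQ Q0 Ys e₁ j)).mulVec (Pi.single (Sum.inl (Sum.inl j)) 1) =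
      -Pi.single (Sum.inl (Sum.inr j)) 1 := by
  unfold cQ
  rw [pi_wY_mulVec_inl π hπY (Sum.inl j) (by rw [he₁]; exact one_ne_zero)]
  rw [if_pos rfl, he₁]
  simp

include hπY he₁ in
theorem pi_cQ_fix' {k j : Fin n} (hjk : j ≠ k) :
    (π (cQ Q0 Ys e₁ k)).mulVec (Pi.single (Sum.inl (Sum.inr j)) 1) =
      Pi.single (Sum.inl (Sum.inr j)) 1 := by
  unfold cQ
  rw [pi_wY_mulVec_inl π hπY (Sum.inl k) (by rw [he₁]; exact one_ne_zero)]
  have h2 : (Sum.inr j : J n) ≠ Sum.inl k := by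
    intro h; simp at h
  have h3 : (Sum.inr j : J n) ≠ ng (Sum.inl k) := by
    intro h
    simp only [ng_inl, Sum.inr.injEq] at h
    exact hjk h
  rw [if_neg h2, if_neg h3]

include hπY he₁ in
/-- the product of the sign changes of a list moves `e_j` to `± f_j` for `j` in the list -/
theorem pi_prod_cQ :
    ∀ (l : List (Fin n)), l.Nodup → ∀ j ∈ l,
      ∃ ε : F, (π ((l.map (cQ Q0 Ys e₁)).prod)).mulVec (Pi.single (Sum.inl (Sum.inl j)) 1) =
        ε • Pi.single (Sum.inl (Sum.inr j)) 1 := by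
  intro l
  induction l with
  | nil => intro _ j hj; simp at hj
  | cons k l ih =>
    intro hnd j hj
    rw [List.nodup_cons] at hnd
    rw [List.map_cons, List.prod_cons, map_mul, ← Matrix.mulVec_mulVec]
    rcases List.mem_cons.1 hj with rfl | hjl
    · -- `j = k`: the tail fixes `e_j`
      have htail : ∀ (l' : List (Fin n)), j ∉ l' →
          (π ((l'.map (cQ Q0 Ys e₁)).prod)).mulVec (Pi.single (Sum.inl (Sum.inl j)) 1) =
            Pi.single (Sum.inl (Sum.inl j)) 1 := by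
        intro l'
        induction l' with
        | nil =>
          intro _
          rw [List.map_nil, List.prod_nil, map_one, Matrix.one_mulVec]
        | cons k' l' ih' =>
          intro hj'
          have hjk' : j ≠ k' := fun h => hj' (by rw [h]; exact List.mem_cons_self)
          rw [List.map_cons, List.prod_cons, map_mul, ← Matrix.mulVec_mulVec,
            ih' (fun h => hj' (List.mem_cons_of_mem _ h))]
          exact pi_cQ_fix π hπY he₁ hjk'
      rw [htail l hnd.1, pi_cQ_flip π hπY he₁]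
      exact ⟨-1, by simp⟩
    · obtain ⟨ε, hε⟩ := ih hnd.2 j hjl
      have hjk : j ≠ k := fun h => hnd.1 (by rw [← h]; exact hjl)
      rw [hε, Matrix.mulVec_smul, pi_cQ_fix' π hπY he₁ hjk]
      exact ⟨ε, rfl⟩

end

end MAINN

open MAINN

section main

variable (π : M →* Matrix (IQ n κ) (IQ n κ) F)
  (hπX : ∀ a b, IsRoot a b → ∀ t : F, π (X a b t) = xmQ a b t)
  (hπY : ∀ a, ∀ w : κ → F, π (Ys a w) = ymQ Q0 a w)

include hπX hπY in
/-- an element of `N̂` whose matrix has the columns of the hyperbolic part diagonal lies in the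
torus -/
theorem mem_HhQ_of_mem_Nh [Nonempty κ] (hn : 3 ≤ n) (hQ : QuadraticMap.Anisotropic Q0)
    (hB : QRel Q0 X Ys) {e₁ : κ → F} (he₁ : Q0 e₁ = 1) {m : M}
    (hm : m ∈ (datumQ Q0 X Ys).Nh)
    (hd : ∀ (a : J n) (i : IQ n κ), i ≠ Sum.inl a → π m i (Sum.inl a) = 0) :
    m ∈ HhQ Q0 X Ys := by
  classical
  obtain ⟨Θ, hΘ'⟩ := exists_half_sl hn hB.dX (∅ : Finset (Fin n))
  have hΘ : ∀ (i j : Fin n) (hij : i ≠ j) (t : F),
      Θ (Matrix.SpecialLinearGroup.transvection hij t) = X (Sum.inl i) (Sum.inl j) t := by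
    intro i j hij t
    rw [hΘ' i j hij t]
    simp [half]
  obtain ⟨ν, hν, y, hy, rfl⟩ := exists_of_mem_NhQ π hπX hn hQ hB he₁ hm
  obtain ⟨l, hnd, h, hh, rfl⟩ := exists_list_of_mem_CSQ hn hQ hB he₁ hy
  obtain ⟨g, rfl⟩ := NA_le_range Θ hΘ hB.dX hν
  have hhd := fun {h' : M} (hh' : h' ∈ HhQ Q0 X Ys) => col_of_mem_HhQ π hπX hπY hn hQ hB hh'
  have hne : ∀ a : J n, π (Θ g * ((l.map (cQ Q0 Ys e₁)).prod * h)) (Sum.inl a) (Sum.inl a) ≠ 0 :=
    fun a => col_ne_zero (A := π (Θ g * ((l.map (cQ Q0 Ys e₁)).prod * h)))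
      (B := π (Θ g * ((l.map (cQ Q0 Ys e₁)).prod * h))⁻¹)
      (by rw [← map_mul, inv_mul_cancel, map_one]) (fun i hi => hd a i hi)
  -- the list is empty
  have hl : l = [] := by
    by_contra hl
    obtain ⟨j, hj⟩ := List.exists_mem_of_ne_nil l hl
    obtain ⟨ε, hε⟩ := pi_prod_cQ π hπY he₁ l hnd j hj
    have h1 : (π (Θ g * ((l.map (cQ Q0 Ys e₁)).prod * h))).mulVec
          (Pi.single (Sum.inl (Sum.inl j)) 1) =
        (π h (Sum.inl (Sum.inl j)) (Sum.inl (Sum.inl j)) * ε) •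
          (π (Θ g)).mulVec (Pi.single (Sum.inl (Sum.inr j)) 1) := by
      rw [map_mul, map_mul, ← Matrix.mulVec_mulVec, ← Matrix.mulVec_mulVec]
      have e1 : (π h).mulVec (Pi.single (Sum.inl (Sum.inl j)) 1) =
          π h (Sum.inl (Sum.inl j)) (Sum.inl (Sum.inl j)) •
            Pi.single (Sum.inl (Sum.inl j)) 1 := by
        ext i
        rw [Matrix.mulVec_single_one, Pi.smul_apply, Pi.single_apply]
        by_cases hi : i = Sum.inl (Sum.inl j)
        · subst hi; simp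
        · simp [hi, hhd hh (Sum.inl j) i hi]
      rw [e1, Matrix.mulVec_smul, hε, Matrix.mulVec_smul, Matrix.mulVec_smul, smul_smul]
    have h2' := congrFun h1 (Sum.inl (Sum.inl j))
    rw [Matrix.mulVec_single_one, Pi.smul_apply, Matrix.mulVec_single_one,
      pi_Theta_Q π hπX Θ hΘ g, Matrix.col_apply, Matrix.col_apply] at h2'
    unfold blkQ at h2'
    rw [Matrix.fromBlocks_apply₁₁, Matrix.fromBlocks_apply₁₂] at h2'
    simp only [Matrix.zero_apply, smul_zero] at h2'
    exact hne (Sum.inl j) h2'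
  subst hl
  simp only [List.map_nil, List.prod_nil, one_mul] at hd ⊢
  -- `Θ g` is diagonal
  have hgd : ∀ (a : J n) (i : IQ n κ), i ≠ Sum.inl a → π (Θ g) i (Sum.inl a) = 0 := by
    intro a i hia
    have e : Θ g = (Θ g * h) * h⁻¹ := by group
    rw [e, map_mul, Matrix.mul_apply]
    apply Finset.sum_eq_zero
    intro k _
    have hhi := hhd (Subgroup.inv_mem _ hh)
    by_cases hk : k = Sum.inl a
    · subst hk; rw [hd a i hia, zero_mul]
    · rw [hhi a k hk, mul_zero]
  have hg' : ∀ i j, i ≠ j → (g : Matrix (Fin n) (Fin n) F) i j = 0 := by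
    intro i j hij
    have := hgd (Sum.inl j) (Sum.inl (Sum.inl i))
      (fun h => hij (Sum.inl.inj (Sum.inl.inj h)))
    rw [pi_Theta_Q π hπX Θ hΘ g] at this
    unfold blkQ at this
    rw [Matrix.fromBlocks_apply₁₁, Matrix.fromBlocks_apply₁₁] at this
    exact this
  obtain ⟨d, rfl⟩ := exists_dgS_of_diag hg'
  exact Subgroup.mul_mem _ (Hh_le_HhQ (Theta_dgS_mem_Hh Θ hΘ hn hB.dX d)) hh

end main

end Cfsg.Agent.S2099P
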