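import Mathlib
import Cfsg.Agent.Helper2.S2099.DefsM
import Cfsg.Agent.Helper20.S2099MODELQ
import Cfsg.Agent.Helper24.S2099XMATQ
import Cfsg.Agent.Helper20.S2099QF2
import Cfsg.Agent.Helper18.S2099MDRELQ

set_option autoImplicit false
set_option linter.unusedSectionVars false
set_option linter.unusedVariables false

/-! S2099 chapter M (the model: root elements of `Ω⁻_{2n+2}(F)`): STUBS (local only). -/

namespace Cfsg.Agent.S2099P

open Matrix Cfsg.Agent.S3352P Cfsg.Agent.S3351P Cfsg.Agent.S2096P

variable {n : ℕ} {F : Type*} [Field F] {κ : Type} [Fintype κ] [DecidableEq κ]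

/-! ### XMATQ: the relations between the model matrices -/

/-! ### MDRELQ: root elements with the model matrices satisfy the relations -/

/-! ### QF2: the polar form of the anisotropic binary form is not zero -/

/-! ### MODELQ: the root elements lie in `Ω⁻_{2n+2}(F)` and generate it -/

end Cfsg.Agent.S2099P
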