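import Mathlib
import Cfsg.Agent.Helper2.S2099.DefsR
import Cfsg.Agent.Helper2.S2099.DefsN
import Cfsg.Agent.Helper2.S2099.DefsZ
import Cfsg.Agent.Helper2.S2096.Defs
import Cfsg.Agent.Helper13.S2099HEXQ
import Cfsg.Agent.Helper15.S2099TYMOVE
import Cfsg.Agent.Helper15.S2099KREFL
import Cfsg.Agent.Helper4.S2099HABELQ
import Cfsg.Agent.Helper15.S2099HLONGQ
import Cfsg.Agent.Helper8.S2099SL2HOM
import Cfsg.Agent.Helper8.S2099TKMUL
import Cfsg.Agent.Helper20.S2099HKERQ2
import Cfsg.Agent.Helper7.S2099HGENQ
import Cfsg.Agent.Helper7.S2099HKERQ1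

set_option autoImplicit false
set_option linter.unusedSectionVars false
set_option linter.unusedVariables false

/-! S2099 chapter Z (the elements of the torus with matrix `±1`): STUBS (local only).
The anisotropic plane is the quadratic extension `K = QK a b` with its norm form. -/

namespace Cfsg.Agent.S2099P

open Matrix Cfsg.Agent.S3352P Cfsg.Agent.S3351P Cfsg.Agent.S2096P Cfsg.Agent.S2086P Cfsg.Agent.RGD
  Cfsg.Agent.Helper2
open Cfsg.Agent.S2094P (RB RootB sc NgEquivariant mapB reflB MD XD XD_coe isRoot_ng_right'
  isRoot_ng_left' sw_ngEquivariant sc_ngEquivariant)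

section formal

variable {n : ℕ} {F : Type*} [Field F] {P : Type*} [AddCommGroup P] [Module F P]
  {M : Type*} [Group M] {Q0 : QuadraticForm F P} {X : J n → J n → F → M} {Ys : J n → P → M}

end formal

section field

variable {n : ℕ} {F : Type*} [Field F] {a b : F} [Aniso a b] {M : Type*} [Group M]
  {X : J n → J n → F → M} {Ys : J n → (Fin 2 → F) → M}

/-! ### KREFL: reflections and rotations of the plane in terms of `K` -/

/-! ### SL2HOM: the rank one subgroup of a short root is an image of `SL₂(K)` -/

/-! ### TKMUL: rank one identities of the short torus elements -/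

/-! ### HABELQ, HGENQ: the structure of the torus -/

/-! ### HKERQ1, HKERQ2, HEXQ: the elements of the torus with matrix `±1` -/

end field

end Cfsg.Agent.S2099P
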