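import Mathlib
import Cfsg.Agent.Helper2.S2099.DefsR
import Cfsg.Agent.Helper2.S2099.DefsZ
import Cfsg.Agent.Helper2.S2099.StubsM
import Cfsg.Agent.Helper2.S2099.MainK
import Cfsg.Agent.Helper2.S2099.MainN
import Cfsg.Agent.Helper2.S2099.StubsZ

set_option autoImplicit false
set_option linter.unusedSectionVars false
set_option linter.unusedVariables false

/-! S2099 chapter Z, assembly: the elements with matrix `±1` of a group with the relations `QRel`
for the norm form of the quadratic extension and the natural representation. -/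

namespace Cfsg.Agent.S2099P

open Matrix Cfsg.Agent.S3352P Cfsg.Agent.S3351P Cfsg.Agent.S2096P Cfsg.Agent.S2086P Cfsg.Agent.RGD
open Cfsg.Agent.S2094P (RB RootB sc NgEquivariant mapB reflB MD XD XD_coe isRoot_ng_right'
  isRoot_ng_left' sw_ngEquivariant sc_ngEquivariant)

variable {n : ℕ} {F : Type*} [Field F] [Fintype F] {a b : F} [Aniso a b] {M : Type*} [Group M]
  {X : J n → J n → F → M} {Ys : J n → (Fin 2 → F) → M}

theorem anisotropic_of_aniso : QuadraticMap.Anisotropic (qf2 a b) :=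
  anisotropic_qf2 (Aniso.out (a := a) (b := b))

section main

variable (π : M →* Matrix (IQ n (Fin 2)) (IQ n (Fin 2)) F)
  (hπX : ∀ c d, IsRoot c d → ∀ t : F, π (X c d t) = xmQ c d t)
  (hπY : ∀ c, ∀ w : Fin 2 → F, π (Ys c w) = ymQ (qf2 a b) c w)

include hπX hπY in
/-- the elements with a scalar matrix lie in the torus -/
theorem mem_HhQ_of_scalar (hn : 3 ≤ n) (hB : QRel (qf2 a b) X Ys)
    (hgen : Subgroup.closure ({g : M | ∃ c d, ∃ t : F, IsRoot c d ∧ g = X c d t} ∪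
      {g | ∃ c, ∃ w : Fin 2 → F, g = Ys c w}) = ⊤) {x : M} {c : F} (hc : c ≠ 0)
    (hx : π x = c • (1 : Matrix (IQ n (Fin 2)) (IQ n (Fin 2)) F)) :
    x ∈ HhQ (qf2 a b) X Ys := by
  have hQ : QuadraticMap.Anisotropic (qf2 a b) := anisotropic_of_aniso
  have hnd := exists_polar_qf2_ne_zero (F := F) (Aniso.out (a := a) (b := b))
  obtain ⟨k, hk, m, hm, k', hk', hmD, -, rfl⟩ :=
    scalar_decomp π hπX hπY hn hQ hnd hB hgen hc hx
  have hd := (mono_of_rootPQ π hπX hπY hn hQ (g := m) (σ := 1) (fun a => rfl) hmD.1 hmD.2).1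
  have hmH := mem_HhQ_of_mem_Nh π hπX hπY hn hQ hB (qf2_e1 a b) hm hd
  exact Subgroup.mul_mem _ (Subgroup.mul_mem _ hk hmH) hk'

include hπX hπY in
/-- the kernel of `π` has at most two elements -/
theorem eq_one_or_eq_tK_of_ker (hn : 3 ≤ n) (hB : QRel (qf2 a b) X Ys)
    (hgen : Subgroup.closure ({g : M | ∃ c d, ∃ t : F, IsRoot c d ∧ g = X c d t} ∪
      {g | ∃ c, ∃ w : Fin 2 → F, g = Ys c w}) = ⊤) (o : Fin n) {x : M} (hx : π x = 1) :
    x = 1 ∨ x = tK Ys (Sum.inl o) (-1 : QK a b) :=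
  eq_one_or_eq_tK π hπX hπY hn hB o
    (mem_HhQ_of_scalar π hπX hπY hn hB hgen one_ne_zero (by rw [hx, one_smul])) hx

include hπX hπY in
/-- the elements with matrix `-1` -/
theorem cases_of_neg_one (hn : 3 ≤ n) (h2 : (2 : F) ≠ 0) (hB : QRel (qf2 a b) X Ys)
    (hgen : Subgroup.closure ({g : M | ∃ c d, ∃ t : F, IsRoot c d ∧ g = X c d t} ∪
      {g | ∃ c, ∃ w : Fin 2 → F, g = Ys c w}) = ⊤) (o : Fin n) {x : M} (hx : π x = -1) :
    Even n ∧ ¬ IsSquare (-1 : F) ∧ x * x = tK Ys (Sum.inl o) (-1 : QK a b) :=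
  cases_of_pi_eq_neg_one π hπX hπY hn h2 hB o
    (mem_HhQ_of_scalar π hπX hπY hn hB hgen (neg_ne_zero.2 one_ne_zero)
      (by rw [hx, neg_smul, one_smul])) hx

end main

end Cfsg.Agent.S2099P
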