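import Mathlib
import Cfsg.Prelude.Def_Classical
import Cfsg.Agent.Helper2.S2099.DefsM
import Cfsg.Agent.Helper23.S2099ARITHQ
import Cfsg.Agent.Helper19.S2099CENTERQ

set_option autoImplicit false
set_option linter.unusedSectionVars false
set_option linter.unusedVariables false

/-! S2099 chapter F (the centre of `Ω⁻` and the arithmetic of `gcd (4, q^l + 1)`): STUBS
(local only). -/

namespace Cfsg.Agent.S2099P

open Matrix Cfsg.Agent.S3352P Cfsg.Agent.S3351P Cfsg.Agent.S2096P

variable {n : ℕ} {F : Type*} [Field F] [Fintype F]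

end Cfsg.Agent.S2099P
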