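import Mathlib
import Cfsg.Prelude.Def_Classical
import Cfsg.Prelude.Def_KGroupFacts
import Cfsg.Agent.Helper2.S2099.DefsR
import Cfsg.Agent.Helper2.S2099.DefsM
import Cfsg.Agent.Helper2.S2099.DefsZ
import Cfsg.Agent.Helper2.S2099.StubsM
import Cfsg.Agent.Helper2.S2099.StubsF
import Cfsg.Agent.Helper2.S2099.MainK
import Cfsg.Agent.Helper2.S2099.MainZ
import Cfsg.Agent.Helper2.S2099.MainC
import Cfsg.Agent.Helper2.S2099.MainA
import Cfsg.Agent.Helper11.PSL32Mult

set_option autoImplicit false
set_option linter.unusedSectionVars false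
set_option linter.unusedVariables false

/-! S2099 chapter F: the Steinberg group of twisted type `²D_{n+1}` over a finite field is the
universal cover of `PΩ⁻_{2n+2}(F)`; the kernel is cyclic of order `gcd (4, q^{n+1} + 1)`. -/

namespace Cfsg.Agent.S2099P

open Matrix Cfsg.Agent.S3352P Cfsg.Agent.S3351P Cfsg.Agent.S2096P Cfsg.Agent.S2086P
open Cfsg.Agent.S2094P (isRoot_ng_right' isRoot_ng_left')
open scoped commutatorElement

universe u

namespace MAINFQ

section perfect

variable {n : ℕ} {F : Type u} [Field F] {P : Type u} [AddCommGroup P] [Module F P]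
  {Q0 : QuadraticForm F P}

/-- the Steinberg group is perfect -/
theorem commutator_StQ (hn : 3 ≤ n) : commutator (StQ n Q0) = ⊤ := by
  have hB := qRel_st (n := n) (Q0 := Q0)
  have hX : ∀ a b, IsRoot a b → ∀ t : F, sxQ Q0 a b t ∈ commutator (StQ n Q0) := by
    intro a b hab t
    have h := hB.dX.mul a (th hn a b) b (isRoot_left_th hn a b) (isRoot_th_right hn a b) hab t 1
    rw [mul_one] at h
    rw [← h, cm_def, ← commutatorElement_def]
    exact Subgroup.commutator_mem_commutator (Subgroup.mem_top _) (Subgroup.mem_top _)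
  rw [eq_top_iff, ← closure_sQ, Subgroup.closure_le]
  rintro _ (⟨a, b, t, hab, rfl⟩ | ⟨a, w, rfl⟩)
  · exact hX a b hab t
  · have hab : IsRoot a (th hn a a) := isRoot_left_th hn a a
    have h := hB.xy a (th hn a a) hab 1 w
    rw [one_smul, one_mul] at h
    have e : syQ Q0 a w = cm (sxQ Q0 a (th hn a a) 1) (syQ Q0 (th hn a a) w) *
        (sxQ Q0 a (ng (th hn a a)) (Q0 w))⁻¹ := by
      rw [h]; group
    rw [SetLike.mem_coe, e]
    apply Subgroup.mul_mem
    · rw [cm_def, ← commutatorElement_def]
      exact Subgroup.commutator_mem_commutator (Subgroup.mem_top _) (Subgroup.mem_top _)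
    · exact Subgroup.inv_mem _ (hX a _ (isRoot_ng_right' hab) (Q0 w))

end perfect

section rfl

variable {F : Type*} [Field F] {P : Type*} [AddCommGroup P] [Module F P] (Q0 : QuadraticForm F P)

theorem rfl0_neg (w u : P) : rfl0 Q0 (-w) u = rfl0 Q0 w u := by
  unfold rfl0
  rw [QuadraticMap.polar_neg_right, QuadraticMap.map_neg, smul_neg, neg_mul, neg_smul, neg_neg]

theorem rfl0_rfl0 {w : P} (hw : Q0 w ≠ 0) (u : P) : rfl0 Q0 w (rfl0 Q0 w u) = u := by
  unfold rfl0
  rw [QuadraticMap.polar_sub_left, QuadraticMap.polar_smul_left, QuadraticMap.polar_self,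
    smul_eq_mul]
  have e : (QuadraticMap.polar (⇑Q0) u w -
      QuadraticMap.polar (⇑Q0) u w * (Q0 w)⁻¹ * (2 • Q0 w)) * (Q0 w)⁻¹ =
      -(QuadraticMap.polar (⇑Q0) u w * (Q0 w)⁻¹) := by
    rw [two_nsmul]
    field_simp
    ring
  rw [e, neg_smul]
  abel

end rfl

/-- a cyclic subgroup with a generator of known order -/
theorem cyclic_equiv {G : Type*} [Group G] (K : Subgroup G) (g : G) (hg : g ∈ K)
    (hK : ∀ x ∈ K, x ∈ Subgroup.zpowers g) {N : ℕ} (hN : orderOf g = N) :
    Nonempty (Multiplicative (ZMod N) ≃* K) := by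
  have hKe : K = Subgroup.zpowers g :=
    le_antisymm hK ((Subgroup.zpowers_le).2 hg)
  have hcard : Nat.card (Subgroup.zpowers g) = N := by rw [Nat.card_zpowers, hN]
  have e2 := zmodCyclicMulEquiv (inferInstance : IsCyclic (Subgroup.zpowers g))
  rw [hcard] at e2
  exact ⟨e2.trans (MulEquiv.subgroupCongr hKe.symm)⟩

variable {n : ℕ} {F : Type u} [Field F] [Fintype F] {a b : F} [Aniso a b]

/-- the natural map of the Steinberg group onto `Ω⁻_{2n+2}(F)` -/
theorem exists_rhoQ (hn : 3 ≤ n) :
    ∃ ρ : StQ n (qf2 a b) →* ↥(Cfsg.Omega F (Cfsg.quadFormMinus n F a b)),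
      Function.Surjective ρ ∧
      (∀ c d, IsRoot c d → ∀ t : F, coeΩQ n a b (ρ (sxQ (qf2 a b) c d t)) = xmQ c d t) ∧
      ∀ c, ∀ w : Fin 2 → F, coeΩQ n a b (ρ (syQ (qf2 a b) c w)) = ymQ (qf2 a b) c w := by
  obtain ⟨Y, Z, hY, hZ, hgen⟩ := exists_modelQ (F := F) (n := n) hn (Aniso.out (a := a) (b := b))
  have hrel : QRel (qf2 a b) Y Z := qRel_of_coe (qf2 a b) (coeΩQ n a b) (coeΩQ_injective n a b) hY hZ
  obtain ⟨ρ, hρX, hρY⟩ := exists_liftQ hrel
  refine ⟨ρ, ?_, ?_, ?_⟩
  · rw [← MonoidHom.range_eq_top, eq_top_iff, ← hgen, Subgroup.closure_le]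
    rintro _ (⟨c, d, t, hcd, rfl⟩ | ⟨c, w, rfl⟩)
    · exact ⟨sxQ (qf2 a b) c d t, hρX c d hcd t⟩
    · exact ⟨syQ (qf2 a b) c w, hρY c w⟩
  · intro c d hcd t
    rw [hρX c d hcd t, hY c d hcd t]
  · intro c w
    rw [hρY c w, hZ c w]

end MAINFQ

open MAINFQ

variable {n : ℕ} {F : Type u} [Field F] [Fintype F] {a b : F} [Aniso a b]

/-- the Schur multiplier of `PΩ⁻_{2n+2}(F)` is cyclic of order `gcd (4, q^{n+1} + 1)` -/
theorem hasSchurMultiplierQ (hn : 3 ≤ n) :
    Cfsg.HasCyclicSchurMultiplier (Cfsg.POmega F (Cfsg.quadFormMinus n F a b))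
      (Nat.gcd 4 (Fintype.card F ^ (n + 1) + 1)) := by
  classical
  have hab := Aniso.out (a := a) (b := b)
  obtain ⟨ρ, hρs, hρX, hρY⟩ := exists_rhoQ (n := n) (F := F) (a := a) (b := b) hn
  set π : StQ n (qf2 a b) →* Matrix (IQ n (Fin 2)) (IQ n (Fin 2)) F :=
    (coeΩQ n a b).comp ρ with hπdef
  have hπX : ∀ c d, IsRoot c d → ∀ t : F, π (sxQ (qf2 a b) c d t) = xmQ c d t := hρX
  have hπY : ∀ c, ∀ w : Fin 2 → F, π (syQ (qf2 a b) c w) = ymQ (qf2 a b) c w := hρY
  have hB := qRel_st (n := n) (Q0 := qf2 a b)
  have hgen := closure_sQ (n := n) (Q0 := qf2 a b)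
  have hperf := commutator_StQ (n := n) (Q0 := qf2 a b) hn
  have hQ : QuadraticMap.Anisotropic (qf2 a b) := anisotropic_of_aniso
  have hnd := exists_polar_qf2_ne_zero (F := F) hab
  have hsurj : ∀ μ : F, μ ≠ 0 → ∃ w : Fin 2 → F, qf2 a b w = μ :=
    fun μ hμ => exists_qf2_eq hab hμ
  -- scalar elements are central
  have hscal : ∀ {x : StQ n (qf2 a b)} {c : F}, c ≠ 0 →
      π x = c • (1 : Matrix (IQ n (Fin 2)) (IQ n (Fin 2)) F) →
      x ∈ Subgroup.center (StQ n (qf2 a b)) :=
    fun hc hx => scalar_mem_center π hπX hπY hn hQ hnd hB hgen hc hx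
  have hπρ : ∀ x, π x = 1 ↔ ρ x = 1 := by
    intro x
    constructor
    · intro h
      apply coeΩQ_injective n a b
      rw [map_one]
      exact h
    · intro h
      rw [hπdef, MonoidHom.comp_apply, h, map_one]
  have hkρ : ρ.ker ≤ Subgroup.center (StQ n (qf2 a b)) := by
    intro x hx
    rw [MonoidHom.mem_ker] at hx
    exact hscal one_ne_zero (by rw [(hπρ x).2 hx, one_smul])
  -- finiteness
  have : Finite ↥(Cfsg.Omega F (Cfsg.quadFormMinus n F a b)) := inferInstance
  have hfin := Cfsg.Agent.Helper11.Cover.finite_commutator ρ hρs hkρ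
  rw [hperf] at hfin
  have : Finite (StQ n (qf2 a b)) := Finite.of_equiv _ Subgroup.topEquiv.toEquiv
  -- the map onto `PΩ`
  let π' : StQ n (qf2 a b) →* Cfsg.POmega F (Cfsg.quadFormMinus n F a b) :=
    (QuotientGroup.mk' (Subgroup.center ↥(Cfsg.Omega F (Cfsg.quadFormMinus n F a b)))).comp ρ
  have hπ's : Function.Surjective π' := (QuotientGroup.mk'_surjective _).comp hρs
  have hker' : ∀ x, x ∈ π'.ker ↔ π x = 1 ∨ π x = -1 := by
    intro x
    rw [MonoidHom.mem_ker, MonoidHom.comp_apply, QuotientGroup.mk'_apply,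
      QuotientGroup.eq_one_iff]
    constructor
    · intro hx
      exact center_OmegaQ_cases hn hab (ρ x) hx
    · intro hx
      rw [Subgroup.mem_center_iff]
      intro g
      apply coeΩQ_injective n a b
      rw [map_mul, map_mul]
      have hx' : coeΩQ n a b (ρ x) = 1 ∨ coeΩQ n a b (ρ x) = -1 := hx
      rcases hx' with h | h
      · rw [h, mul_one, one_mul]
      · rw [h, mul_neg, mul_one, neg_mul, one_mul]
  have hkerle : π'.ker ≤ Subgroup.center (StQ n (qf2 a b)) := by
    intro x hx
    rcases (hker' x).1 hx with h | h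
    · exact hscal one_ne_zero (by rw [h, one_smul])
    · exact hscal (neg_ne_zero.2 one_ne_zero) (by rw [h, neg_smul, one_smul])
  -- every stem extension of the Steinberg group is trivial
  obtain ⟨h₀, R, D, hR⟩ := exists_rot (n := n) (F := F) (a := a) (b := b) hn hB
  have hM : ∀ (P : Type u) [Group P] [Finite P] (ρ' : P →* StQ n (qf2 a b)),
      Cfsg.IsStemExtension ρ' → ρ'.ker = ⊥ :=
    fun P _ _ ρ' hρ' => ker_eq_botQ hn hR hnd hsurj ρ' hρ'
  -- the kernel
  let o : Fin n := ⟨0, by omega⟩
  set z : StQ n (qf2 a b) := tK (syQ (n := n) (qf2 a b)) (Sum.inl o) (-1 : QK a b) with hz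
  have hone : ∀ x, π x = 1 → x = 1 ∨ x = z := fun x hx =>
    eq_one_or_eq_tK_of_ker π hπX hπY hn hB hgen o hx
  have hw1 : QK.toP (-1 : QK a b) = -(e1 : Fin 2 → F) := by
    rw [QK.toP_neg, QK.toP_one]
  have hq1 : qf2 a b (-(e1 : Fin 2 → F)) = 1 := by
    rw [QuadraticMap.map_neg, qf2_e1]
  have hzk : π z = 1 := by
    rw [hz]
    unfold tK
    rw [hw1, pi_tY π hπY (qf2_e1 a b) (Sum.inl o) (by rw [hq1]; exact one_ne_zero), hq1]
    have h1 : Matrix.diagonal (fun c : J n =>
        if c = Sum.inl o then (1 : F) else if c = ng (Sum.inl o) then (1 : F)⁻¹ else 1) = 1 := by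
      rw [← Matrix.diagonal_one]
      congr 1
      funext c
      split_ifs <;> simp
    have h2 : rotM (qf2 a b) (e1 : Fin 2 → F) (-(e1 : Fin 2 → F)) = 1 := by
      ext k k'
      unfold rotM
      rw [Matrix.of_apply, rfl0_neg,
        rfl0_rfl0 (qf2 a b) (by rw [qf2_e1]; exact one_ne_zero), Matrix.one_apply,
        Pi.single_apply]
    rw [h1, h2, Matrix.fromBlocks_one]
  have hzz : z * z = 1 := by
    rcases hone (z * z) (by rw [map_mul, hzk, mul_one]) with h | h
    · exact h
    · have : z = 1 := by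
        have h' : z * z = z * 1 := by rw [mul_one]; exact h
        exact mul_left_cancel h'
      rw [this, mul_one]
  have hzmem : z ∈ π'.ker := (hker' z).2 (Or.inl hzk)
  -- the three cases
  have hfinal : Nonempty (Multiplicative (ZMod (Nat.gcd 4 (Fintype.card F ^ (n + 1) + 1))) ≃*
      π'.ker) := by
    by_cases h2 : (2 : F) = 0
    · -- characteristic two
      have hneg : (-1 : F) = 1 := by linear_combination (-1 : F) * h2
      have hnegM : (-1 : Matrix (IQ n (Fin 2)) (IQ n (Fin 2)) F) = 1 := by
        ext i j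
        rw [Matrix.neg_apply, Matrix.one_apply]
        split_ifs
        · exact hneg
        · exact neg_zero
      have hz1 : z = 1 := by
        have e : (-1 : QK a b) = 1 := by
          ext
          · exact hneg
          · simp
        rw [hz, e, tK_one]
      refine cyclic_equiv π'.ker 1 (Subgroup.one_mem _) ?_ ?_
      · intro x hx
        have hx1 : π x = 1 := by
          rcases (hker' x).1 hx with h | h
          · exact h
          · rw [h, hnegM]
        rcases hone x hx1 with h | h
        · rw [h]; exact Subgroup.one_mem _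
        · rw [h, hz1]; exact Subgroup.one_mem _
      · rw [orderOf_one, gcd_four_of_two_eq_zero h2 (Nat.succ_ne_zero n)]
    · have hz1 : z ≠ 1 := by
        have h := tY_syQ_ne_one (n := n) h2 (qf2 a b) (qf2_e1 a b) (Sum.inl o)
        rw [hz]
        unfold tK
        rw [hw1]
        exact h
      by_cases hcase : Even n ∧ ¬ IsSquare (-1 : F)
      · -- a generator of order four
        obtain ⟨h, -, hπh⟩ := exists_pi_eq_neg_one π hπX hπY hn h2 hB hcase.1 hcase.2
        have hhh : h * h = z := (cases_of_neg_one π hπX hπY hn h2 hB hgen o hπh).2.2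
        have hhmem : h ∈ π'.ker := (hker' h).2 (Or.inr hπh)
        refine cyclic_equiv π'.ker h hhmem ?_ ?_
        · intro x hx
          rcases (hker' x).1 hx with hx1 | hx1
          · rcases hone x hx1 with e | e
            · rw [e]; exact Subgroup.one_mem _
            · rw [e, ← hhh]
              exact Subgroup.mul_mem _ (Subgroup.mem_zpowers h) (Subgroup.mem_zpowers h)
          · have hxh : π (x * h⁻¹) = 1 := by
              have e1 : π (x * h⁻¹) * π h = π x := by
                rw [← map_mul, inv_mul_cancel_right]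
              rw [hx1, hπh, mul_neg, mul_one, neg_inj] at e1
              exact e1
            rcases hone (x * h⁻¹) hxh with e | e
            · have : x = h := by
                rw [mul_inv_eq_one] at e
                exact e
              rw [this]; exact Subgroup.mem_zpowers h
            · have : x = z * h := by
                rw [← e, inv_mul_cancel_right]
              rw [this, ← hhh]
              exact Subgroup.mul_mem _
                (Subgroup.mul_mem _ (Subgroup.mem_zpowers h) (Subgroup.mem_zpowers h))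
                (Subgroup.mem_zpowers h)
        · rw [gcd_four_of_nonsquare h2 (Even.add_one hcase.1) hcase.2]
          have h4 : orderOf h = 2 ^ (1 + 1) := by
            apply orderOf_eq_prime_pow
            · rw [pow_one, pow_two, hhh]
              exact hz1
            · have : h ^ 2 ^ (1 + 1) = (h * h) * (h * h) := by
                show h ^ 4 = (h * h) * (h * h)
                rw [pow_succ, pow_succ, pow_succ, pow_one]
                group
              rw [this, hhh, hzz]
          rw [h4]
          norm_num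
      · -- the kernel has two elements
        refine cyclic_equiv π'.ker z hzmem ?_ ?_
        · intro x hx
          rcases (hker' x).1 hx with hx1 | hx1
          · rcases hone x hx1 with e | e
            · rw [e]; exact Subgroup.one_mem _
            · rw [e]; exact Subgroup.mem_zpowers z
          · exfalso
            have := cases_of_neg_one π hπX hπY hn h2 hB hgen o hx1
            exact hcase ⟨this.1, this.2.1⟩
        · have hg : Even (n + 1) ∨ IsSquare (-1 : F) := by
            by_cases hev : Even n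
            · right
              by_contra hsq
              exact hcase ⟨hev, hsq⟩
            · left
              exact (Nat.not_even_iff_odd.1 hev).add_one
          rw [gcd_four_of_square h2 hg]
          have : Fact (Nat.Prime 2) := ⟨Nat.prime_two⟩
          exact orderOf_eq_prime (by rw [pow_two]; exact hzz) hz1
  obtain ⟨e⟩ := hfinal
  exact Cfsg.Agent.Helper11.Cover.hasSchurMultiplier_of_cover hperf hM π' hπ's hkerle e

end Cfsg.Agent.S2099P
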